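import Groth.Agent.SymGrLib.Criterion
import Groth.Agent.FSmoothAdicLib.KaehlerProjective

/-!
Adic formal smoothness over an intermediate ring via differentials.
-/

set_option autoImplicit false
set_option linter.style.haveILetI false
universe u
open TensorProduct KaehlerDifferential

namespace Groth.Agent.SymGrLib

theorem isFormallySmoothAdic_bot {A B : Type u} [CommRing A] [CommRing B] [Algebra A B] {𝔫 : Ideal B}
    (h : CAlgX.IsAdicFormallySmooth A B 𝔫) : EGA41.IsFormallySmoothAdic A ⊥ B 𝔫 := by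
  intro C _ _ I hI _ u hu
  obtain ⟨n, hn⟩ := hI
  obtain ⟨v, -, hv⟩ := exists_lift_nilpotent h n C I (by
    rw [eq_bot_iff, ← Ideal.zero_eq_bot, ← hn]
    exact Ideal.pow_le_pow_right (Nat.lt_two_pow_self).le) u hu
  exact ⟨v, hv⟩

theorem exists_lift_of_projective {R M X Y : Type u} [CommRing R] (𝔄 : Ideal R) [AddCommGroup M] [Module R M]
    [AddCommGroup X] [Module R X] [AddCommGroup Y] [Module R Y] (hM : Module.Projective (R ⧸ 𝔄) ((R ⧸ 𝔄) ⊗[R] M))
    (hX : ∀ r ∈ 𝔄, ∀ x : X, r • x = 0) (q : X →ₗ[R] Y) (hq : Function.Surjective q) (ψ : M →ₗ[R] Y) :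
    ∃ r : M →ₗ[R] X, q ∘ₗ r = ψ := by
  have hY : ∀ r ∈ 𝔄, ∀ y : Y, r • y = 0 := fun r hr y => by
    obtain ⟨x, rfl⟩ := hq y
    rw [← map_smul, hX r hr, map_zero]
  letI : Module (R ⧸ 𝔄) X := Module.IsTorsionBySet.module (show Module.IsTorsionBySet R X 𝔄 from fun x a => hX a.1 a.2 x)
  letI : Module (R ⧸ 𝔄) Y := Module.IsTorsionBySet.module (show Module.IsTorsionBySet R Y 𝔄 from fun y a => hY a.1 a.2 y)
  haveI : IsScalarTower R (R ⧸ 𝔄) X := IsScalarTower.of_algebraMap_smul fun _ _ => rfl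
  haveI : IsScalarTower R (R ⧸ 𝔄) Y := IsScalarTower.of_algebraMap_smul fun _ _ => rfl
  let q' : X →ₗ[R ⧸ 𝔄] Y :=
    { toFun := q
      map_add' := map_add q
      map_smul' := fun c x => by
        obtain ⟨c, rfl⟩ := Ideal.Quotient.mk_surjective c
        exact map_smul q c x }
  obtain ⟨r, hr⟩ := Module.projective_lifting_property q' (ψ.liftBaseChange (R ⧸ 𝔄)) hq
  refine ⟨r.restrictScalars R ∘ₗ TensorProduct.mk R (R ⧸ 𝔄) M 1, LinearMap.ext fun m => ?_⟩
  show q (r (1 ⊗ₜ m)) = ψ m
  have := LinearMap.congr_fun hr (1 ⊗ₜ m)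
  rw [LinearMap.liftBaseChange_tmul, one_smul] at this
  exact this

variable {Λ A B : Type u} [CommRing Λ] [CommRing A] [CommRing B] [Algebra Λ A] [Algebra A B] [Algebra Λ B]
  [IsScalarTower Λ A B] (J : Ideal B)

/-- Extension property of derivations with values in modules killed by a power of `J`. -/
theorem exists_comp_mapBaseChange_eq (h : CAlgX.IsAdicFormallySmooth Λ B J)
    (hinj : Function.Injective ((mapBaseChange Λ A B).lTensor (B ⧸ J)))
    (hproj : Module.Projective (B ⧸ J) ((B ⧸ J) ⊗[B] Ω[B⁄A]))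
    (m : ℕ) (hm : 1 ≤ m) {I : Type u} [AddCommGroup I] [Module B I] (hI : ∀ r ∈ J ^ m, ∀ x : I, r • x = 0)
    (φ : B ⊗[A] Ω[A⁄Λ] →ₗ[B] I) : ∃ Δ : Ω[B⁄Λ] →ₗ[B] I, Δ ∘ₗ mapBaseChange Λ A B = φ := by
  let C := B ⧸ J
  let MA := B ⊗[A] Ω[A⁄Λ]
  let g : MA →ₗ[B] Ω[B⁄Λ] := mapBaseChange Λ A B
  let f : C ⊗[B] MA →ₗ[B] C ⊗[B] Ω[B⁄Λ] := g.lTensor C
  let π : C ⊗[B] Ω[B⁄Λ] →ₗ[C] C ⊗[B] Ω[B⁄A] := (KaehlerDifferential.map Λ A B B).baseChange C
  have hexact : Function.Exact f π := lTensor_exact C (exact_mapBaseChange_map Λ A B) (map_surjective Λ A B)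
  have hπs : Function.Surjective π := LinearMap.lTensor_surjective C (map_surjective Λ A B)
  obtain ⟨sec, hsec⟩ := Module.projective_lifting_property π LinearMap.id hπs
  have hmem : ∀ z, z - sec (π z) ∈ LinearMap.range f := fun z => LinearMap.mem_range.2 ((hexact _).1 (by
    rw [map_sub, show π (sec (π z)) = π z from LinearMap.congr_fun hsec _, sub_self]))
  let e := LinearEquiv.ofInjective f hinj
  let r0 : C ⊗[B] Ω[B⁄Λ] →ₗ[B] C ⊗[B] MA :=
    e.symm.toLinearMap ∘ₗ (LinearMap.id - sec.restrictScalars B ∘ₗ π.restrictScalars B).codRestrict _ hmem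
  have hr0 : ∀ y, r0 (f y) = y := fun y => by
    show e.symm _ = y
    rw [LinearEquiv.symm_apply_eq]
    refine Subtype.ext ?_
    show f y - sec (π (f y)) = f y
    rw [(hexact _).2 ⟨y, rfl⟩, map_zero, sub_zero]
  -- truncation
  let X := MA ⧸ ((J ^ m) • (⊤ : Submodule B MA))
  have hXkill : ∀ r ∈ J ^ m, ∀ x : X, r • x = 0 := fun r hr x => by
    obtain ⟨x, rfl⟩ := Submodule.Quotient.mk_surjective _ x
    rw [← Submodule.Quotient.mk_smul, Submodule.Quotient.mk_eq_zero]
    exact Submodule.smul_mem_smul hr trivial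
  let one : MA →ₗ[B] C ⊗[B] MA := TensorProduct.mk B C MA 1
  have hone : ∀ z, one z = 0 ↔ z ∈ J • (⊤ : Submodule B MA) := fun z => by
    rw [← Submodule.Quotient.mk_eq_zero, ← (TensorProduct.quotTensorEquivQuotSMul MA J).map_eq_zero_iff]
    rw [show one z = (Ideal.Quotient.mk J 1) ⊗ₜ[B] z from rfl, TensorProduct.quotTensorEquivQuotSMul_mk_tmul, one_smul]
  let q : X →ₗ[B] C ⊗[B] MA := Submodule.liftQ _ one (fun z hz => LinearMap.mem_ker.2 <| (hone z).2
    (Submodule.smul_mono_left (Ideal.pow_le_self (by omega)) hz))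
  have hq : Function.Surjective q := fun w => by
    obtain ⟨z, hz⟩ := TensorProduct.mk_surjective B MA C Ideal.Quotient.mk_surjective w
    exact ⟨Submodule.Quotient.mk z, hz⟩
  obtain ⟨r, hr⟩ := exists_lift_of_projective (J ^ m)
    (FSmoothAdicLib.projective_kaehler ⊥ J ⟨1, by simp⟩ (isFormallySmoothAdic_bot h) (J ^ m) ⟨m, le_rfl⟩)
    hXkill q hq (r0 ∘ₗ TensorProduct.mk B C Ω[B⁄Λ] 1)
  let hX : X →ₗ[B] X := Submodule.liftQ _ (r ∘ₗ g) (Submodule.smul_le.2 fun a ha z _ => LinearMap.mem_ker.2 <| by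
    rw [map_smul, hXkill a ha])
  let d : Module.End B X := hX - 1
  have hd1 : ∀ x : X, d x ∈ J • (⊤ : Submodule B X) := fun x => by
    obtain ⟨z, rfl⟩ := Submodule.Quotient.mk_surjective _ x
    obtain ⟨w, hw⟩ := Submodule.Quotient.mk_surjective _ (d (Submodule.Quotient.mk z))
    have h1 : one w = 0 := by
      have h2 : q (d (Submodule.Quotient.mk z)) = 0 := by
        show q (r (g z) - Submodule.Quotient.mk z) = 0
        have h3 := LinearMap.congr_fun hr (g z)
        rw [map_sub, sub_eq_zero]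
        refine h3.trans ?_
        show r0 (f ((1 : C) ⊗ₜ z)) = one z
        rw [hr0]; rfl
      rw [← hw] at h2; exact h2
    rw [← hw]
    have := Submodule.mem_map_of_mem (f := Submodule.mkQ ((J ^ m) • (⊤ : Submodule B MA))) ((hone w).1 h1)
    rw [Submodule.map_smul''] at this
    exact Submodule.smul_mono le_rfl le_top this
  have hdi : ∀ i : ℕ, ∀ x : X, (d ^ i) x ∈ (J ^ i) • (⊤ : Submodule B X) := by
    intro i
    induction i with
    | zero => intro x; rw [pow_zero J, Ideal.one_eq_top, Submodule.top_smul]; trivial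
    | succ i ih =>
      intro x
      rw [pow_succ' d, Module.End.mul_apply]
      have h2 := Submodule.mem_map_of_mem (f := d) (ih x)
      rw [Submodule.map_smul''] at h2
      have h3 : Submodule.map d ⊤ ≤ J • (⊤ : Submodule B X) := by
        rintro _ ⟨y, -, rfl⟩; exact hd1 y
      have h4 := Submodule.smul_mono (le_refl (J ^ i)) h3 h2
      rwa [← Submodule.mul_smul, ← pow_succ] at h4
  have hnil : IsNilpotent d := ⟨m, LinearMap.ext fun x => by
    show (d ^ m) x = (0 : X)
    refine Submodule.smul_induction_on (hdi m x) (fun a ha y _ => hXkill a ha y) fun a b ha hb => ?_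
    rw [ha, hb, add_zero]⟩
  obtain ⟨U, hU⟩ := hnil.isUnit_add_one
  have hUh : (U : Module.End B X) = hX := by rw [hU]; exact sub_add_cancel _ _
  let φX : X →ₗ[B] I := Submodule.liftQ _ φ (Submodule.smul_le.2 fun a ha z _ => LinearMap.mem_ker.2 <| by
    rw [map_smul, hI a ha])
  refine ⟨φX ∘ₗ (U⁻¹ : (Module.End B X)ˣ).val ∘ₗ r, LinearMap.ext fun z => ?_⟩
  show φX ((U⁻¹ : (Module.End B X)ˣ).val (hX (Submodule.Quotient.mk z))) = φ z
  rw [← hUh, ← Module.End.mul_apply, Units.inv_mul, Module.End.one_apply]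
  rfl

theorem isAdicFormallySmooth_of_injective (h : CAlgX.IsAdicFormallySmooth Λ B J)
    (hinj : Function.Injective ((mapBaseChange Λ A B).lTensor (B ⧸ J)))
    (hproj : Module.Projective (B ⧸ J) ((B ⧸ J) ⊗[B] Ω[B⁄A])) : CAlgX.IsAdicFormallySmooth A B J := by
  intro D _ _ I hI u hu
  obtain ⟨k, hk⟩ := hu
  letI : Algebra Λ D := ((algebraMap A D).comp (algebraMap Λ A)).toAlgebra
  haveI : IsScalarTower Λ A D := IsScalarTower.of_algebraMap_eq fun _ => rfl
  obtain ⟨v, ⟨k', hk'⟩, hv⟩ := exists_lift_nilpotent h 1 D I (by rw [pow_one]; exact hI) (u.restrictScalars Λ) ⟨k, hk⟩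
  have hvu : ∀ b, Ideal.Quotient.mk I (v b) = u b := fun b => AlgHom.congr_fun hv b
  have hII : ∀ x y : D, x ∈ I → y ∈ I → x * y = 0 := fun x y hx hy => by
    rw [← Ideal.mem_bot, ← hI, pow_two]; exact Ideal.mul_mem_mul hx hy
  have hdA : ∀ a, algebraMap A D a - v (algebraMap A B a) ∈ I := fun a => by
    rw [← Ideal.Quotient.eq, hvu, u.commutes]; rfl
  letI : Module B I := Module.compHom I v.toRingHom
  have hsm : ∀ (b : B) (x : I), ((b • x : I) : D) = v b * x := fun b x => rfl
  haveI : IsScalarTower A B I := IsScalarTower.of_algebraMap_smul fun a x => Subtype.ext <| by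
    rw [hsm, Submodule.coe_smul_of_tower, Algebra.smul_def, ← sub_eq_zero, ← sub_mul, ← neg_sub, neg_mul, neg_eq_zero]
    exact hII _ _ (hdA a) x.2
  haveI : IsScalarTower Λ B I := IsScalarTower.of_algebraMap_smul fun l x => Subtype.ext <| by
    rw [hsm, AlgHom.commutes, Submodule.coe_smul_of_tower, Algebra.smul_def]
  haveI : IsScalarTower Λ A I := IsScalarTower.of_algebraMap_smul fun l x => Subtype.ext <| by
    rw [Submodule.coe_smul_of_tower, Submodule.coe_smul_of_tower, algebraMap_smul]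
  let δ : Derivation Λ A I := Derivation.mk'
    { toFun := fun a => ⟨algebraMap A D a - v (algebraMap A B a), hdA a⟩
      map_add' := fun a b => Subtype.ext <| by
        simp only [Submodule.coe_add, map_add]; ring
      map_smul' := fun l a => Subtype.ext <| by
        show algebraMap A D (l • a) - v (algebraMap A B (l • a)) = l • (algebraMap A D a - v (algebraMap A B a))
        rw [Algebra.smul_def l a, map_mul, map_mul, map_mul,
          ← IsScalarTower.algebraMap_apply Λ A D, ← IsScalarTower.algebraMap_apply Λ A B, AlgHom.commutes, Algebra.smul_def]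
        ring }
    fun a b => Subtype.ext <| by
      simp only [LinearMap.coe_mk, AddHom.coe_mk, Submodule.coe_add, Submodule.coe_smul_of_tower, map_mul, Algebra.smul_def]
      linear_combination -(hII _ _ (hdA a) (hdA b))
  let M := max k' 1
  have hIM : ∀ r ∈ J ^ M, ∀ x : I, r • x = 0 := fun r hr x => Subtype.ext <| by
    rw [hsm, hk' r (Ideal.pow_le_pow_right (le_max_left _ _) hr), zero_mul]; rfl
  obtain ⟨Δ, hΔ⟩ := exists_comp_mapBaseChange_eq J h hinj hproj M (le_max_right _ _) hIM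
    (δ.liftKaehlerDifferential.liftBaseChange B)
  let Dd : Derivation Λ B I := Δ.compDer (KaehlerDifferential.D Λ B)
  have hDd : ∀ a, Dd (algebraMap A B a) = δ a := fun a => by
    have := LinearMap.congr_fun hΔ ((1 : B) ⊗ₜ[A] KaehlerDifferential.D Λ A a)
    rw [LinearMap.comp_apply, mapBaseChange_tmul, KaehlerDifferential.map_D, one_smul, LinearMap.liftBaseChange_tmul,
      one_smul, Derivation.liftKaehlerDifferential_comp_D] at this
    exact this
  refine ⟨{ toFun := fun b => v b + (Dd b : D), map_one' := ?_, map_mul' := ?_, map_zero' := ?_, map_add' := ?_,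
            commutes' := ?_ }, AlgHom.ext fun b => ?_⟩
  · show v 1 + (Dd 1 : D) = 1
    simp
  · intro a b
    show v (a * b) + (Dd (a * b) : D) = (v a + (Dd a : D)) * (v b + (Dd b : D))
    rw [Derivation.leibniz, Submodule.coe_add, hsm, hsm, map_mul]
    linear_combination -(hII _ _ (Dd a).2 (Dd b).2)
  · show v 0 + (Dd 0 : D) = 0
    simp
  · intro a b
    show v (a + b) + (Dd (a + b) : D) = v a + (Dd a : D) + (v b + (Dd b : D))
    rw [map_add, map_add, Submodule.coe_add]; ring
  · intro a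
    show v (algebraMap A B a) + (Dd (algebraMap A B a) : D) = algebraMap A D a
    rw [hDd]
    exact add_sub_cancel _ _
  · show Ideal.Quotient.mk I (v b + (Dd b : D)) = u b
    rw [map_add, Ideal.Quotient.eq_zero_iff_mem.2 (Dd b).2, add_zero, hvu]

theorem isAdicFormallySmooth_trans [Algebra.FormallySmooth Λ A] (h : CAlgX.IsAdicFormallySmooth A B J) :
    CAlgX.IsAdicFormallySmooth Λ B J := by
  intro D _ _ I hI u hu
  let w := Algebra.FormallySmooth.lift I ⟨2, hI⟩ (u.comp (IsScalarTower.toAlgHom Λ A B))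
  have hw : ∀ a, Ideal.Quotient.mk I (w a) = u (algebraMap A B a) := fun a =>
    AlgHom.congr_fun (Algebra.FormallySmooth.comp_lift I ⟨2, hI⟩ _) a
  letI : Algebra A D := w.toRingHom.toAlgebra
  haveI : IsScalarTower Λ A D := IsScalarTower.of_algebraMap_eq fun l => (w.commutes l).symm
  obtain ⟨χ, hχ⟩ := h D I hI { u.toRingHom with commutes' := fun a => (hw a).symm } hu
  exact ⟨χ.restrictScalars Λ, AlgHom.ext fun b => (AlgHom.congr_fun hχ b :)⟩

theorem injective_lTensor_mapBaseChange (h : CAlgX.IsAdicFormallySmooth A B J) :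
    Function.Injective ((mapBaseChange Λ A B).lTensor (B ⧸ J)) := by
  classical
  let C := B ⧸ J
  let P := C ⊗[B] (B ⊗[A] Ω[A⁄Λ])
  let mkP : Ω[A⁄Λ] →ₗ[A] P :=
    ((TensorProduct.mk B C (B ⊗[A] Ω[A⁄Λ]) 1).restrictScalars A) ∘ₗ TensorProduct.mk A B Ω[A⁄Λ] 1
  let δ : Derivation Λ A P := mkP.compDer (KaehlerDifferential.D Λ A)
  let ρ : A →+* TrivSqZeroExt C P :=
    { toFun := fun a => TrivSqZeroExt.inl (algebraMap A C a) + TrivSqZeroExt.inr (δ a)
      map_one' := by simp
      map_zero' := by simp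
      map_add' := fun a b => by
        refine TrivSqZeroExt.ext ?_ ?_
        · simp only [TrivSqZeroExt.fst_add, TrivSqZeroExt.fst_inl, TrivSqZeroExt.fst_inr, map_add]
          ring
        · simp only [TrivSqZeroExt.snd_add, TrivSqZeroExt.snd_inl, TrivSqZeroExt.snd_inr, map_add]
          abel
      map_mul' := fun a b => by
        refine TrivSqZeroExt.ext ?_ ?_
        · simp only [TrivSqZeroExt.fst_add, TrivSqZeroExt.fst_mul, TrivSqZeroExt.fst_inl, TrivSqZeroExt.fst_inr, map_mul]
          ring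
        rw [TrivSqZeroExt.snd_mul, op_smul_eq_smul]
        simp only [TrivSqZeroExt.fst_add, TrivSqZeroExt.snd_add, TrivSqZeroExt.fst_inl, TrivSqZeroExt.fst_inr,
          TrivSqZeroExt.snd_inl, TrivSqZeroExt.snd_inr]
        rw [add_zero, add_zero, zero_add, zero_add, zero_add, Derivation.leibniz, algebraMap_smul, algebraMap_smul] }
  letI : Algebra A (TrivSqZeroExt C P) := ρ.toAlgebra
  let fs : TrivSqZeroExt C P →ₐ[A] C :=
    { (TrivSqZeroExt.fstHom C C P).toRingHom with
      commutes' := fun a => by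
        show TrivSqZeroExt.fst (TrivSqZeroExt.inl (algebraMap A C a) + TrivSqZeroExt.inr (δ a)) = algebraMap A C a
        simp }
  have hfs : Function.Surjective fs := fun c => ⟨TrivSqZeroExt.inl c, by
    exact TrivSqZeroExt.fst_inl P c⟩
  have hker : RingHom.ker fs ^ 2 = ⊥ := by
    rw [pow_two, eq_bot_iff, Ideal.mul_le]
    intro z hz w hw
    have hz0 : z.fst = 0 := hz
    have hw0 : w.fst = 0 := hw
    exact TrivSqZeroExt.ext (by simp [hz0]) (by simp [hz0, hw0])
  let e := Ideal.quotientKerAlgEquivOfSurjective hfs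
  obtain ⟨v, hv⟩ := h _ (RingHom.ker fs) hker (e.symm.toAlgHom.comp (Ideal.Quotient.mkₐ A J)) ⟨1, fun x hx => by
    show e.symm (Ideal.Quotient.mk J x) = 0
    rw [pow_one] at hx
    rw [Ideal.Quotient.eq_zero_iff_mem.2 hx, map_zero]⟩
  have hfst : ∀ b, (v b).fst = Ideal.Quotient.mk J b := fun b => by
    have := congrArg e (AlgHom.congr_fun hv b)
    change fs (v b) = e (e.symm _) at this
    rw [AlgEquiv.apply_symm_apply] at this
    exact this
  have hvA : ∀ a, (v (algebraMap A B a)).snd = δ a := fun a => by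
    rw [AlgHom.commutes]
    show TrivSqZeroExt.snd (TrivSqZeroExt.inl (algebraMap A C a) + TrivSqZeroExt.inr (δ a)) = δ a
    simp
  let Dd : Derivation Λ B P := Derivation.mk'
    { toFun := fun b => (v b).snd
      map_add' := fun a b => by simp
      map_smul' := fun l b => by
        rw [Algebra.smul_def, IsScalarTower.algebraMap_apply Λ A B, map_mul, TrivSqZeroExt.snd_mul, op_smul_eq_smul,
          hfst, hvA, Derivation.map_algebraMap, smul_zero, add_zero, ← Ideal.Quotient.algebraMap_eq, algebraMap_smul,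
          ← IsScalarTower.algebraMap_apply Λ A B, algebraMap_smul, RingHom.id_apply] }
    fun a b => by
      show (v (a * b)).snd = a • (v b).snd + b • (v a).snd
      rw [map_mul, TrivSqZeroExt.snd_mul, op_smul_eq_smul, hfst, hfst, ← Ideal.Quotient.algebraMap_eq,
        algebraMap_smul, algebraMap_smul]
  have key : Dd.liftKaehlerDifferential ∘ₗ mapBaseChange Λ A B = TensorProduct.mk B C (B ⊗[A] Ω[A⁄Λ]) 1 := by
    refine TensorProduct.AlgebraTensorModule.curry_injective (LinearMap.ext_ring (LinearMap.ext_on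
      (KaehlerDifferential.span_range_derivation Λ A) ?_))
    rintro _ ⟨a, rfl⟩
    show Dd.liftKaehlerDifferential (mapBaseChange Λ A B (1 ⊗ₜ KaehlerDifferential.D Λ A a)) =
      (1 : C) ⊗ₜ ((1 : B) ⊗ₜ KaehlerDifferential.D Λ A a)
    rw [mapBaseChange_tmul, one_smul, KaehlerDifferential.map_D, Derivation.liftKaehlerDifferential_comp_D]
    exact hvA a
  refine Function.LeftInverse.injective (g := Dd.liftKaehlerDifferential.liftBaseChange C) fun x => ?_
  induction x using TensorProduct.induction_on with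
  | zero => simp
  | add x y hx hy => rw [map_add, map_add, hx, hy]
  | tmul c z =>
    rw [LinearMap.lTensor_tmul, LinearMap.liftBaseChange_tmul,
      show Dd.liftKaehlerDifferential (mapBaseChange Λ A B z) = (1 : C) ⊗ₜ z from LinearMap.congr_fun key z,
      TensorProduct.smul_tmul', smul_eq_mul, mul_one]

end Groth.Agent.SymGrLib
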