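import Mathlib
import Groth.Prelude.Def_CAlgX
import Groth.Agent.FieldExtLib.Imperfection
import Groth.Agent.EisensteinLib.PPower

/-!
Adic formal smoothness over a field and `p`-radical base change.
-/

set_option autoImplicit false
set_option linter.style.haveILetI false
universe u
open IsLocalRing TensorProduct KaehlerDifferential

namespace Groth.Agent.SymGrLib

theorem isAdicFormallySmooth_baseChange {k A : Type u} [CommRing k] [CommRing A] [Algebra k A] {𝔫 : Ideal A}
    (h : CAlgX.IsAdicFormallySmooth k A 𝔫) (k' : Type u) [CommRing k'] [Algebra k k'] (M : Ideal (k' ⊗[k] A))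
    (hM : 𝔫.map (Algebra.TensorProduct.includeRight : A →ₐ[k] k' ⊗[k] A) ≤ M) :
    CAlgX.IsAdicFormallySmooth k' (k' ⊗[k] A) M := by
  intro D _ _ J hJ ψ hψ
  obtain ⟨m, hm⟩ := hψ
  letI : Algebra k D := ((algebraMap k' D).comp (algebraMap k k')).toAlgebra
  haveI : IsScalarTower k k' D := IsScalarTower.of_algebraMap_eq fun _ => rfl
  obtain ⟨χ, hχ⟩ := h D J hJ ((ψ.restrictScalars k).comp Algebra.TensorProduct.includeRight) ⟨m, fun x hx =>
    hm _ (Ideal.pow_right_mono hM m (by rw [← Ideal.map_pow]; exact Ideal.mem_map_of_mem _ hx))⟩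
  refine ⟨Algebra.TensorProduct.lift (Algebra.ofId k' D) χ fun _ _ => Commute.all _ _,
    Algebra.TensorProduct.ext (AlgHom.ext fun c => ?_) (AlgHom.ext fun a => ?_)⟩
  · simp only [AlgHom.comp_apply, Algebra.TensorProduct.includeLeft_apply, Algebra.TensorProduct.lift_tmul, map_one, mul_one]
    exact (ψ.commutes c).symm
  · simp only [AlgHom.comp_apply, AlgHom.restrictScalars_apply, Algebra.TensorProduct.includeRight_apply,
      Algebra.TensorProduct.lift_tmul, map_one, one_mul]
    exact (AlgHom.congr_fun hχ a :)

/-- A ring integral over a local ring all of whose elements have a `p`-th power in the base is local. -/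
theorem isLocalRing_of_pow_mem {A R : Type u} [CommRing A] [IsLocalRing A] [CommRing R] [Nontrivial R] [Algebra A R]
    [Algebra.IsIntegral A R] {p : ℕ} (hp : 0 < p) (hpow : ∀ r : R, r ^ p ∈ (algebraMap A R).range) :
    ∃ _ : IsLocalRing R, IsLocalHom (algebraMap A R) := by
  have hover : ∀ N : Ideal R, N.IsMaximal → N.comap (algebraMap A R) = maximalIdeal A :=
    fun N hN => IsLocalRing.eq_maximalIdeal (Ideal.isMaximal_comap_of_isIntegral_of_isMaximal N)
  have hle : ∀ M N : Ideal R, M.IsMaximal → N.IsMaximal → M ≤ N := by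
    intro M N hM hN b hb
    obtain ⟨a, ha⟩ := hpow b
    have h1 : a ∈ M.comap (algebraMap A R) := by
      show algebraMap A R a ∈ M
      rw [ha]; exact M.pow_mem_of_mem hb p hp
    rw [hover M hM, ← hover N hN] at h1
    exact hN.isPrime.mem_of_pow_mem p (ha ▸ h1)
  obtain ⟨M, hM⟩ := Ideal.exists_maximal R
  haveI hloc : IsLocalRing R :=
    IsLocalRing.of_unique_max_ideal ⟨M, hM, fun N hN => le_antisymm (hle N M hN hM) (hle M N hM hN)⟩
  exact ⟨hloc, ((IsLocalRing.local_hom_TFAE _).out 4 0).1 (hover _ inferInstance)⟩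

theorem pow_mem_range_tensor {k A k' : Type u} [CommRing k] [CommRing A] [Algebra k A] [CommRing k'] [Algebra k k']
    {p : ℕ} [Fact p.Prime] (hp : (p : k) = 0) (h : ∀ x : k', x ^ p ∈ (algebraMap k k').range) (r : k' ⊗[k] A) :
    r ^ p ∈ (Algebra.TensorProduct.includeRight : A →ₐ[k] k' ⊗[k] A).range := by
  induction r using TensorProduct.induction_on with
  | zero => rw [zero_pow (Fact.out : p.Prime).ne_zero]; exact zero_mem _
  | tmul c a =>
    obtain ⟨b, hb⟩ := h c
    refine ⟨algebraMap k A b * a ^ p, ?_⟩
    show (1 : k') ⊗ₜ[k] (algebraMap k A b * a ^ p) = _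
    rw [Algebra.TensorProduct.tmul_pow, ← hb, ← Algebra.smul_def, Algebra.algebraMap_eq_smul_one b,
      TensorProduct.tmul_smul, TensorProduct.smul_tmul']
  | add x y hx hy =>
    obtain ⟨q, hq⟩ := exists_add_pow_prime_eq (Fact.out : p.Prime) x y
    have h0 : (p : k' ⊗[k] A) = 0 := by
      rw [← map_natCast (algebraMap k (k' ⊗[k] A)), hp, map_zero]
    rw [hq, h0, zero_mul, zero_mul, zero_mul, add_zero]
    exact add_mem hx hy

theorem injective_lTensor_of_linearIndependent {k A : Type u} [Field k] [CommRing A] [IsLocalRing A] [Algebra k A]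
    (h : ∀ (r : ℕ) (b : Fin r → k), LinearIndependent k (fun i => D ℤ k (b i)) →
      LinearIndependent (ResidueField A) fun i => (1 : ResidueField A) ⊗ₜ[A] D ℤ A (algebraMap k A (b i))) :
    Function.Injective ((mapBaseChange ℤ k A).lTensor (ResidueField A)) := by
  classical
  let K := ResidueField A
  obtain ⟨s, hs, hsspan, hli⟩ := exists_linearIndependent k (Set.range (D ℤ k : k → Ω[k⁄ℤ]))
  rw [KaehlerDifferential.span_range_derivation] at hsspan
  choose b hb using fun x : s => hs x.2
  let B0 : Module.Basis s k Ω[k⁄ℤ] := Module.Basis.mk hli (by rw [Subtype.range_coe_subtype, Set.setOf_mem_eq, hsspan])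
  let B1 := (B0.baseChange A).baseChange K
  let g := (mapBaseChange ℤ k A).baseChange K
  have hval : ∀ x : s, g (B1 x) = (1 : K) ⊗ₜ[A] D ℤ A (algebraMap k A (b x)) := fun x => by
    simp only [B1, g, Module.Basis.baseChange_apply, LinearMap.baseChange_tmul, mapBaseChange_tmul, one_smul]
    rw [show B0 x = (x : Ω[k⁄ℤ]) from Module.Basis.mk_apply _ _ _, ← hb x, map_D]
  have hgli : LinearIndependent K (g ∘ B1) := by
    rw [linearIndependent_iff_finset_linearIndependent]
    intro t
    let e := t.equivFin
    have h1 : LinearIndependent k (fun i => D ℤ k (b (e.symm i).1)) := by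
      simp only [hb]
      exact hli.comp (fun i => (e.symm i).1) (Subtype.val_injective.comp e.symm.injective)
    have h2 := (h _ _ h1).comp e e.injective
    convert h2 using 1
    funext x
    simp [hval]
  intro x y hxy
  rw [← sub_eq_zero]
  have h0 : g (x - y) = 0 := by rw [map_sub, sub_eq_zero]; exact hxy
  rw [← B1.linearCombination_repr (x - y), Finsupp.apply_linearCombination] at h0
  rw [← B1.linearCombination_repr (x - y), linearIndependent_iff.1 hgli _ h0, map_zero]

theorem injective_lTensor_of_perfectField {k A : Type u} [Field k] [PerfectField k] [CommRing A] [IsLocalRing A]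
    [Algebra k A] : Function.Injective ((mapBaseChange ℤ k A).lTensor (ResidueField A)) := by
  let K := ResidueField A
  refine injective_lTensor_of_linearIndependent fun r b hb => ?_
  haveI : Algebra.FormallySmooth k K := Groth.Agent.FieldExtLib.formallySmooth_field_of_perfectField k K
  haveI : Subsingleton (Algebra.H1Cotangent k K) := Algebra.FormallySmooth.subsingleton_h1Cotangent
  have hinj : Function.Injective (mapBaseChange ℤ k K) := by
    rw [injective_iff_map_eq_zero]
    intro x hx
    obtain ⟨y, rfl⟩ := (Algebra.H1Cotangent.exact_δ_mapBaseChange ℤ k K x).1 hx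
    rw [Subsingleton.elim y 0, map_zero]
  have h1 := (Module.Flat.linearIndependent_one_tmul (S := K) hb).map' (mapBaseChange ℤ k K)
    (LinearMap.ker_eq_bot.2 hinj)
  refine LinearIndependent.of_comp (mapBaseChange ℤ A K) ?_
  have he : (mapBaseChange ℤ A K ∘ fun i => (1 : K) ⊗ₜ[A] D ℤ A (algebraMap k A (b i))) =
      (mapBaseChange ℤ k K ∘ fun i => (1 : K) ⊗ₜ[k] D ℤ k (b i)) := funext fun i => by
    simp only [Function.comp_apply, mapBaseChange_tmul, one_smul, map_D]
    rw [← IsScalarTower.algebraMap_apply k A K]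
  rw [he]
  exact h1

theorem linearIndependent_of_isRegularRing {k A : Type u} [Field k] (p : ℕ) [Fact p.Prime] [CharP k p]
    [CommRing A] [IsRegularLocalRing A] [Algebra k A]
    (h : ∀ (k' : Type u) [Field k'] [Algebra k k'], Module.Finite k k' →
        (∀ x : k', x ^ p ∈ (algebraMap k k').range) → IsRegularRing (k' ⊗[k] A))
    (r : ℕ) (b : Fin r → k) (hb : LinearIndependent k fun i => D ℤ k (b i)) :
    LinearIndependent (ResidueField A) fun i => (1 : ResidueField A) ⊗ₜ[A] D ℤ A (algebraMap k A (b i)) := by
  have hp := (Fact.out : p.Prime)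
  haveI : CharP (ResidueField k) p := charP_of_injective_algebraMap (algebraMap k (ResidueField k)).injective p
  haveI : CharP (ResidueField A) p := charP_of_injective_algebraMap (algebraMap k (ResidueField A)).injective p
  let c : Fin r → Fin p → k := fun _ _ => 0
  let cA : Fin r → Fin p → A := fun _ _ => 0
  let fA : Fin r → A := fun i => algebraMap k A (b i)
  obtain ⟨hloc, hiff⟩ := EisensteinLib.PPower.isRegularRing_iff (A := k) p c b
    (by rw [CharP.cast_eq_zero k p]; exact zero_mem _)
  let k' := EisensteinLib.PPower.Ring p c b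
  haveI := hloc
  haveI : IsRegularRing k' := hiff.2 (Module.Flat.linearIndependent_one_tmul (S := ResidueField k) hb)
  haveI : IsRegularLocalRing k' := IsRegularLocalRing.of_isRegularRing_of_isLocalRing _
  haveI : IsDomain k' := Groth.Agent.RegLocal.isDomain k'
  haveI hfin : Module.Finite k k' := EisensteinLib.PPower.moduleFinite p c b hp.pos
  haveI : IsArtinianRing k' := IsArtinianRing.of_finite k k'
  letI : Field k' := (IsArtinianRing.isField_of_isDomain k').toField
  have hp0 : (p : k') = 0 := by rw [← map_natCast (algebraMap k k'), CharP.cast_eq_zero k p, map_zero]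
  have hy : ∀ i, EisensteinLib.PPower.y p c b i ^ p = algebraMap k k' (b i) := fun i => by
    rw [EisensteinLib.PPower.rel p c b i, hp0, zero_mul, add_zero]
  have hpow : ∀ x : k', x ^ p ∈ (algebraMap k k').range := by
    intro x
    have hx : x ∈ Algebra.adjoin k (Set.range (EisensteinLib.PPower.y p c b)) := by
      rw [EisensteinLib.PPower.adjoin_y]; trivial
    induction hx using Algebra.adjoin_induction with
    | mem z hz => obtain ⟨i, rfl⟩ := hz; exact ⟨b i, (hy i).symm⟩
    | algebraMap a => exact ⟨a ^ p, map_pow _ _ _⟩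
    | add z w _ _ hz hw =>
      obtain ⟨q, hq⟩ := exists_add_pow_prime_eq hp z w
      rw [hq, hp0, zero_mul, zero_mul, zero_mul, add_zero]
      exact add_mem hz hw
    | mul z w _ _ hz hw => rw [mul_pow]; exact mul_mem hz hw
  haveI hreg := h k' hfin hpow
  have hpR : (p : k' ⊗[k] A) = 0 := by
    rw [← map_natCast (algebraMap k (k' ⊗[k] A)), CharP.cast_eq_zero k p, map_zero]
  let RA := EisensteinLib.PPower.Ring p cA fA
  have hpA : (p : RA) = 0 := by rw [← map_natCast (algebraMap k RA), CharP.cast_eq_zero k p, map_zero]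
  obtain ⟨w, hwA, hwy⟩ := EisensteinLib.PPower.exists_lift p cA fA
    (Algebra.TensorProduct.includeRight : A →ₐ[k] k' ⊗[k] A).toRingHom
    (fun i => EisensteinLib.PPower.y p c b i ⊗ₜ[k] (1 : A)) (fun i => by
      rw [hpR, zero_mul, add_zero, Algebra.TensorProduct.tmul_pow, one_pow, hy]
      show _ = (1 : k') ⊗ₜ[k] algebraMap k A (b i)
      rw [Algebra.algebraMap_eq_smul_one, Algebra.algebraMap_eq_smul_one, TensorProduct.tmul_smul, TensorProduct.smul_tmul'])
  obtain ⟨v, hvk, hvy⟩ := EisensteinLib.PPower.exists_lift p c b (algebraMap k RA)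
    (EisensteinLib.PPower.y p cA fA) (fun i => by
      rw [hpA, zero_mul, add_zero, IsScalarTower.algebraMap_apply k A RA, EisensteinLib.PPower.rel p cA fA i, hpA,
        zero_mul, add_zero])
  let v' : k' ⊗[k] A →ₐ[k] RA := Algebra.TensorProduct.lift { v with commutes' := hvk }
    (IsScalarTower.toAlgHom k A RA) fun _ _ => Commute.all _ _
  have hwv : ∀ z, w (v' z) = z := by
    intro z
    induction z using TensorProduct.induction_on with
    | zero => rw [map_zero, map_zero]
    | add x y hx hy => rw [map_add, map_add, hx, hy]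
    | tmul x a =>
      rw [Algebra.TensorProduct.lift_tmul, map_mul]
      show w (v x) * w (algebraMap A RA a) = _
      have hx : w (v x) = x ⊗ₜ[k] (1 : A) := by
        have hx : x ∈ Algebra.adjoin k (Set.range (EisensteinLib.PPower.y p c b)) := by
          rw [EisensteinLib.PPower.adjoin_y]; trivial
        induction hx using Algebra.adjoin_induction with
        | mem z hz => obtain ⟨i, rfl⟩ := hz; rw [hvy, hwy]
        | algebraMap a =>
          rw [hvk, IsScalarTower.algebraMap_apply k A RA, hwA]
          show (1 : k') ⊗ₜ[k] algebraMap k A a = _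
          rw [Algebra.algebraMap_eq_smul_one, Algebra.algebraMap_eq_smul_one, TensorProduct.tmul_smul, TensorProduct.smul_tmul']
        | add z w' _ _ hz hw => rw [map_add, map_add, hz, hw, TensorProduct.add_tmul]
        | mul z w' _ _ hz hw => rw [map_mul, map_mul, hz, hw, Algebra.TensorProduct.tmul_mul_tmul, mul_one]
      rw [hx, hwA]
      show x ⊗ₜ[k] (1 : A) * (1 : k') ⊗ₜ[k] a = _
      rw [Algebra.TensorProduct.tmul_mul_tmul, mul_one, one_mul]
  have hvw : ∀ z, v' (w z) = z := by
    intro z
    have hz : z ∈ Algebra.adjoin A (Set.range (EisensteinLib.PPower.y p cA fA)) := by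
      rw [EisensteinLib.PPower.adjoin_y]; trivial
    induction hz using Algebra.adjoin_induction with
    | mem z hz =>
      obtain ⟨i, rfl⟩ := hz
      rw [hwy, Algebra.TensorProduct.lift_tmul, map_one, mul_one]
      exact hvy i
    | algebraMap a =>
      rw [hwA]
      show v' ((1 : k') ⊗ₜ[k] a) = _
      rw [Algebra.TensorProduct.lift_tmul, map_one, one_mul]
      rfl
    | add z w' _ _ hz hw => rw [map_add, map_add, hz, hw]
    | mul z w' _ _ hz hw => rw [map_mul, map_mul, hz, hw]
  let e : k' ⊗[k] A ≃+* RA := RingEquiv.ofBijective v'.toRingHom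
    ⟨Function.LeftInverse.injective (g := w) hwv, Function.RightInverse.surjective (g := w) hvw⟩
  exact ((EisensteinLib.PPower.isRegularRing_iff p cA fA (by
    rw [← map_natCast (algebraMap k A), CharP.cast_eq_zero k p, map_zero]; exact zero_mem _)).2).1
      (IsRegularRing.of_ringEquiv e)

end Groth.Agent.SymGrLib
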