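import Groth.Agent.S2471
import Groth.Agent.SymGrLib.Geometric
import Groth.Agent.RegComplLib.Basic

/-!
Adic formal smoothness over a field implies geometric regularity.
-/

set_option autoImplicit false
set_option linter.style.haveILetI false
universe u
open IsLocalRing TensorProduct

namespace Groth.Agent.SymGrLib

theorem isAdicFormallySmooth_localization {k R : Type u} [CommRing k] [CommRing R] [Algebra k R] (N : Ideal R)
    [N.IsMaximal] (h : CAlgX.IsAdicFormallySmooth k R N) :
    CAlgX.IsAdicFormallySmooth k (Localization.AtPrime N) (maximalIdeal (Localization.AtPrime N)) := by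
  intro D _ _ J hJ ψ hψ
  obtain ⟨m, hm⟩ := hψ
  let ι := IsScalarTower.toAlgHom k R (Localization.AtPrime N)
  obtain ⟨χ, hχ⟩ := h D J hJ (ψ.comp ι) ⟨m, fun x hx => hm _ (by
    rw [← Localization.AtPrime.map_eq_maximalIdeal, ← Ideal.map_pow]
    exact Ideal.mem_map_of_mem _ hx)⟩
  have hu : ∀ y : N.primeCompl, IsUnit (χ (y : R)) := fun y => by
    have h1 : IsUnit (Ideal.Quotient.mk J (χ (y : R))) := by
      have := AlgHom.congr_fun hχ (y : R)
      change Ideal.Quotient.mk J (χ (y : R)) = ψ (algebraMap R _ (y : R)) at this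
      rw [this]
      exact (IsLocalization.map_units (Localization.AtPrime N) y).map ψ
    exact IsNilpotent.isUnit_quotient_mk_iff ⟨2, hJ⟩ |>.1 h1
  refine ⟨IsLocalization.liftAlgHom (M := N.primeCompl) (f := χ) hu, ?_⟩
  refine AlgHom.coe_ringHom_injective (IsLocalization.ringHom_ext N.primeCompl (RingHom.ext fun x => ?_))
  show Ideal.Quotient.mk J (IsLocalization.lift hu (algebraMap R _ x)) = ψ (algebraMap R _ x)
  rw [IsLocalization.lift_eq]
  exact AlgHom.congr_fun hχ x

theorem isGeometricallyRegular_of_isAdicFormallySmooth {k A : Type u} [Field k] [CommRing A] [IsLocalRing A]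
    [IsNoetherianRing A] [Algebra k A] (h : CAlgX.IsAdicFormallySmooth k A (maximalIdeal A)) :
    CAlg.IsGeometricallyRegular k A := by
  intro k' _ _ hfin
  letI : Algebra A (k' ⊗[k] A) :=
    (Algebra.TensorProduct.includeRight : A →ₐ[k] k' ⊗[k] A).toRingHom.toAlgebra
  let e : A ⊗[k] k' ≃ₐ[A] k' ⊗[k] A :=
    AlgEquiv.ofRingEquiv (f := (Algebra.TensorProduct.comm k A k').toRingEquiv) fun a => by
      show Algebra.TensorProduct.comm k A k' (a ⊗ₜ[k] (1 : k')) = (1 : k') ⊗ₜ[k] a
      simp
  haveI : Module.Finite A (k' ⊗[k] A) := Module.Finite.equiv e.toLinearEquiv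
  haveI : IsNoetherianRing (k' ⊗[k] A) := IsNoetherianRing.of_finite A _
  refine RegComplLib.isRegularRing_of_isMaximal _ fun N hN => ?_
  have hm : N.comap (algebraMap A (k' ⊗[k] A)) = maximalIdeal A :=
    IsLocalRing.eq_maximalIdeal (Ideal.isMaximal_comap_of_isIntegral_of_isMaximal N)
  haveI : IsNoetherianRing (Localization.AtPrime N) := IsLocalization.isNoetherianRing N.primeCompl _ inferInstance
  have hFS := isAdicFormallySmooth_localization N (isAdicFormallySmooth_baseChange h k' N
    (Ideal.map_le_iff_le_comap.2 hm.ge))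
  exact (Groth.Agent.S2471.result.1 hFS).1

end Groth.Agent.SymGrLib
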