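import Groth.Agent.SymGrLib.Compare

/-!
Criterion for adic formal smoothness by symmetric powers of the conormal module.
-/

set_option autoImplicit false
set_option linter.style.haveILetI false
universe u

namespace Groth.Agent.SymGrLib

variable {A B : Type u} [CommRing A] [CommRing B] [Algebra A B] (J : Ideal B) [Algebra.FormallySmooth A (B ⧸ J)]

theorem isAdicFormallySmooth_of_symGr (hP : Module.Projective (B ⧸ J) J.Cotangent)
    (hS : PP16.SymGrBijective B J) : CAlgX.IsAdicFormallySmooth A B J := by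
  classical
  intro D _ _ I hI u hu
  obtain ⟨k, hk⟩ := hu
  let N := (k + 1) + (k + 1)
  let π : B →+* B ⧸ J ^ N := Ideal.Quotient.mk (J ^ N)
  let P : Ideal (B ⧸ J ^ N) := J.map π
  have hNJ : J ^ N ≤ J := Ideal.pow_le_self (by omega)
  let p : (B ⧸ J ^ N) →ₐ[A] B ⧸ J := Ideal.Quotient.factorₐ A hNJ
  have hP_iff : ∀ n ≤ N, ∀ y : B, π y ∈ P ^ n ↔ y ∈ J ^ n := fun n hn y => by
    show π y ∈ (J.map π) ^ n ↔ _
    rw [← Ideal.map_pow, Ideal.mem_quotient_iff_mem_sup, sup_eq_left.2 (Ideal.pow_le_pow_right hn)]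
  have hPN : P ^ N = ⊥ := by rw [← Ideal.map_pow, Ideal.map_quotient_self]
  have hker : RingHom.ker p.toRingHom = P := by
    show RingHom.ker (Ideal.Quotient.factor hNJ) = _
    rw [Ideal.Quotient.factor_ker]
  have hps : Function.Surjective p := Ideal.Quotient.factor_surjective hNJ
  let σ : (B ⧸ J) →ₐ[A] B ⧸ J ^ N := Algebra.FormallySmooth.liftOfSurjective (AlgHom.id A (B ⧸ J)) p hps
    ⟨N, by show RingHom.ker p.toRingHom ^ N = _; rw [hker, hPN]; rfl⟩
  have hσ : ∀ c, p (σ c) = c := fun c => Algebra.FormallySmooth.liftOfSurjective_apply _ _ _ _ _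
  letI : Algebra (B ⧸ J) (B ⧸ J ^ N) := σ.toRingHom.toAlgebra
  haveI : IsScalarTower A (B ⧸ J) (B ⧸ J ^ N) := IsScalarTower.of_algebraMap_eq fun a => (σ.commutes a).symm
  -- the projection to the conormal module
  let Ps : Submodule (B ⧸ J) (B ⧸ J ^ N) := P.restrictScalars (B ⧸ J)
  have hex : ∀ z : Ps, ∃ x : J, π x = z := fun z => by
    obtain ⟨y, hy⟩ := Ideal.Quotient.mk_surjective (z : B ⧸ J ^ N)
    exact ⟨⟨y, by rw [← pow_one J, ← hP_iff 1 (by omega), pow_one]; show π y ∈ P; rw [show π y = z from hy]; exact z.2⟩, hy⟩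
  choose rep hrep using hex
  have hwd : ∀ x y : J, π x = π y → J.toCotangent x = J.toCotangent y := fun x y h =>
    (Ideal.toCotangent_eq J).2 (Ideal.pow_le_pow_right (show 2 ≤ N by omega) (Ideal.Quotient.eq.1 h))
  let pr : Ps →ₗ[B ⧸ J] J.Cotangent :=
    { toFun := fun z => J.toCotangent (rep z)
      map_add' := fun z w => by
        rw [← map_add]; refine hwd _ _ ?_
        rw [hrep, Submodule.coe_add, Submodule.coe_add, map_add, hrep, hrep]
      map_smul' := fun c z => by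
        obtain ⟨r, hr⟩ := Ideal.Quotient.mk_surjective (σ c)
        have hc : Ideal.Quotient.mk J r = c := by
          have := congrArg p hr; rw [hσ] at this; exact this
        show J.toCotangent (rep (c • z)) = c • J.toCotangent (rep z)
        conv_rhs => rw [← hc, ← Ideal.Quotient.algebraMap_eq, algebraMap_smul, ← map_smul]
        refine hwd _ _ ?_
        rw [hrep]
        show σ c * (z : B ⧸ J ^ N) = π (r * (rep z : B))
        rw [map_mul, hrep, show π r = σ c from hr] }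
  have hpr : Function.Surjective pr := fun m => by
    obtain ⟨x, rfl⟩ := J.toCotangent_surjective m
    exact ⟨⟨π x, Ideal.mem_map_of_mem π x.2⟩, hwd _ _ (hrep _)⟩
  obtain ⟨sec, hsec⟩ := Module.projective_lifting_property pr LinearMap.id hpr
  let sB : J.Cotangent →ₗ[B ⧸ J] B ⧸ J ^ N := Ps.subtype ∘ₗ sec
  let f : SymmetricAlgebra (B ⧸ J) J.Cotangent →ₐ[B ⧸ J] B ⧸ J ^ N := SymmetricAlgebra.lift sB
  have hfQ : (augIdeal (B ⧸ J) J.Cotangent).map f.toRingHom ≤ P := by
    rw [augIdeal, Ideal.map_span, Ideal.span_le]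
    rintro _ ⟨_, ⟨y, rfl⟩, rfl⟩
    show f (SymmetricAlgebra.ι (B ⧸ J) _ y) ∈ P
    rw [SymmetricAlgebra.lift_ι_apply]
    exact (sec y).2
  have hfpow : ∀ n, ∀ q ∈ augIdeal (B ⧸ J) J.Cotangent ^ n, f q ∈ P ^ n := fun n q hq =>
    Ideal.pow_right_mono hfQ n (by rw [← Ideal.map_pow]; exact Ideal.mem_map_of_mem f.toRingHom hq)
  have h0 : ∀ r : B, π r - f (algebraMap (B ⧸ J) _ (Ideal.Quotient.mk J r)) ∈ P := fun r => by
    rw [AlgHom.commutes, ← hker, RingHom.mem_ker, map_sub, sub_eq_zero]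
    show p (π r) = p (σ _)
    rw [hσ]; rfl
  have h1 : ∀ x : J, π x - f (SymmetricAlgebra.ι (B ⧸ J) _ (J.toCotangent x)) ∈ P ^ 2 := fun x => by
    rw [SymmetricAlgebra.lift_ι_apply]
    show π x - (sec (J.toCotangent x) : B ⧸ J ^ N) ∈ _
    rw [← hrep, ← map_sub, hP_iff 2 (by omega), ← Ideal.toCotangent_eq]
    exact (LinearMap.congr_fun hsec (J.toCotangent x)).symm
  have hcomp : ∀ (m : ℕ), ∀ (φ : SymmetricPower B (ULift.{u} (Fin m)) J.Cotangent →ₗ[B] PP16.grJ B J (Fintype.card (ULift.{u} (Fin m)))),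
      (∀ x, φ (SymmetricPower.tprod B (fun i => J.toCotangent (x i))) = PP16.zetaJ B J x) → ∀ s, ∃ y : ↥(J ^ Fintype.card (ULift.{u} (Fin m))),
        φ s = Submodule.Quotient.mk y ∧
          π y - f (symToAlg B (C := B ⧸ J) _ s) ∈ P ^ (Fintype.card (ULift.{u} (Fin m)) + 1) :=
    fun m φ hφ s => compare J π f.toRingHom P le_rfl hfQ h1 h0 _ φ hφ s
  have hcard : ∀ m, Fintype.card (ULift.{u} (Fin m)) = m := fun m => by simp
  -- surjectivity
  have hsurj : ∀ m, ∀ z ∈ P ^ (N - m), z ∈ Set.range f := by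
    intro m
    induction m with
    | zero => intro z hz; rw [Nat.sub_zero, hPN, Ideal.mem_bot] at hz; exact ⟨0, by rw [hz, map_zero]⟩
    | succ m ih =>
      intro z hz
      rcases Nat.eq_zero_or_pos (N - (m + 1)) with hn | hn
      · obtain ⟨y, rfl⟩ := Ideal.Quotient.mk_surjective z
        have hn' : N - m ≤ 1 := by omega
        obtain ⟨q, hq⟩ := ih _ (Ideal.pow_le_pow_right hn' (by rw [pow_one]; exact h0 y))
        exact ⟨algebraMap (B ⧸ J) _ (Ideal.Quotient.mk J y) + q, by rw [map_add, hq]; exact add_sub_cancel _ _⟩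
      · let ι := ULift.{u} (Fin (N - (m + 1)))
        haveI : Nonempty ι := ⟨⟨⟨0, hn⟩⟩⟩
        obtain ⟨φ, hφ, hφb⟩ := hS ι
        obtain ⟨y, rfl⟩ := Ideal.Quotient.mk_surjective z
        have hy : y ∈ J ^ Fintype.card ι := by rw [hcard]; exact (hP_iff _ (by omega) y).1 hz
        obtain ⟨s, hs⟩ := hφb.2 (Submodule.Quotient.mk ⟨y, hy⟩)
        obtain ⟨y', hy', hy''⟩ := hcomp _ φ hφ s
        rw [hs, grJ_mk_eq_iff] at hy'
        have he : N - m = Fintype.card ι + 1 := by rw [hcard]; omega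
        have hmem : π y - f (symToAlg B (C := B ⧸ J) ι s) ∈ P ^ (N - m) := by
          rw [he, show π y - f (symToAlg B (C := B ⧸ J) ι s) = π (y - y') + (π y' - f (symToAlg B (C := B ⧸ J) ι s)) by
            rw [map_sub]; ring]
          refine add_mem ((hP_iff _ (by rw [hcard]; omega) _).2 hy') hy''
        obtain ⟨q, hq⟩ := ih _ hmem
        exact ⟨symToAlg B (C := B ⧸ J) ι s + q, by rw [map_add, hq]; exact add_sub_cancel _ _⟩
  have hfs : Function.Surjective f := fun z => hsurj N z (by rw [Nat.sub_self, pow_zero, Ideal.one_eq_top]; trivial)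
  -- kernel
  have hinj : ∀ q, f q = 0 → ∀ n ≤ N, q ∈ augIdeal (B ⧸ J) J.Cotangent ^ n := by
    intro q hq n
    induction n with
    | zero => intro _; rw [pow_zero, Ideal.one_eq_top]; trivial
    | succ n ih =>
      intro hn
      rcases Nat.eq_zero_or_pos n with rfl | hn0
      · obtain ⟨c, hc⟩ := exists_sub_algebraMap_mem q
        have := hfQ (Ideal.mem_map_of_mem f.toRingHom hc)
        change f (q - algebraMap (B ⧸ J) _ c) ∈ P at this
        rw [map_sub, hq, AlgHom.commutes, zero_sub, neg_mem_iff, ← hker, RingHom.mem_ker] at this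
        rw [show c = 0 from (hσ c).symm.trans this, map_zero, sub_zero] at hc
        rwa [pow_one]
      · let ι := ULift.{u} (Fin n)
        haveI : Nonempty ι := ⟨⟨⟨0, hn0⟩⟩⟩
        have hq' := ih (by omega)
        rw [← hcard n] at hq' ⊢
        obtain ⟨s, hs⟩ := exists_symToAlg_sub_mem (R := B) Ideal.Quotient.mk_surjective ι q hq'
        obtain ⟨φ, hφ, hφb⟩ := hS ι
        obtain ⟨y, hy, hy'⟩ := hcomp _ φ hφ s
        have hf' : f (symToAlg B (C := B ⧸ J) ι s) ∈ P ^ (Fintype.card ι + 1) := by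
          have := hfpow _ _ hs
          rwa [map_sub, hq, zero_sub, neg_mem_iff] at this
        have hy0 : φ s = 0 := by
          rw [hy, Submodule.Quotient.mk_eq_zero, Submodule.mem_comap, Submodule.subtype_apply,
            ← hP_iff _ (by rw [hcard]; omega)]
          have hsum := add_mem hy' hf'
          rw [sub_add_cancel] at hsum
          exact hsum
        rw [hφb.1 (hy0.trans (map_zero φ).symm), map_zero, sub_zero] at hs
        exact hs
  -- the target
  have hkN : J ^ N ≤ J ^ k := Ideal.pow_le_pow_right (by omega)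
  let uN : (B ⧸ J ^ N) →ₐ[A] D ⧸ I := Ideal.Quotient.liftₐ _ u fun x hx => hk x (hkN hx)
  let τ : (B ⧸ J) →ₐ[A] D := Algebra.FormallySmooth.liftOfSurjective (uN.comp σ) (Ideal.Quotient.mkₐ A I)
    Ideal.Quotient.mk_surjective ⟨2, by show RingHom.ker (Ideal.Quotient.mk I) ^ 2 = _; rw [Ideal.mk_ker, hI]; rfl⟩
  have hτ : ∀ c, Ideal.Quotient.mk I (τ c) = uN (σ c) := fun c =>
    Algebra.FormallySmooth.liftOfSurjective_apply _ (Ideal.Quotient.mkₐ A I) _ _ c
  letI : Algebra (B ⧸ J) D := τ.toRingHom.toAlgebra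
  haveI : IsScalarTower A (B ⧸ J) D := IsScalarTower.of_algebraMap_eq fun a => (τ.commutes a).symm
  let uC : (B ⧸ J ^ N) →ₐ[B ⧸ J] D ⧸ I := { uN.toRingHom with commutes' := fun c => (hτ c).symm }
  obtain ⟨l, hl⟩ := Module.projective_lifting_property (Ideal.Quotient.mkₐ (B ⧸ J) I).toLinearMap
    (uC.toLinearMap ∘ₗ sB) Ideal.Quotient.mk_surjective
  let g : SymmetricAlgebra (B ⧸ J) J.Cotangent →ₐ[B ⧸ J] D := SymmetricAlgebra.lift l
  have hg : (Ideal.Quotient.mkₐ (B ⧸ J) I).comp g = uC.comp f := SymmetricAlgebra.algHom_ext (LinearMap.ext fun m => by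
    show Ideal.Quotient.mk I (g (SymmetricAlgebra.ι _ _ m)) = uC (f (SymmetricAlgebra.ι _ _ m))
    rw [SymmetricAlgebra.lift_ι_apply, SymmetricAlgebra.lift_ι_apply]
    exact LinearMap.congr_fun hl m)
  have hgI : ∀ q ∈ augIdeal (B ⧸ J) J.Cotangent ^ (k + 1), g q ∈ I := fun q hq => by
    rw [← Ideal.Quotient.eq_zero_iff_mem]
    have := AlgHom.congr_fun hg q
    change Ideal.Quotient.mk I (g q) = uN (f q) at this
    obtain ⟨y, hy⟩ := Ideal.Quotient.mk_surjective (f q)
    have hy' : y ∈ J ^ (k + 1) := (hP_iff _ (by omega) y).1 (by rw [show π y = f q from hy]; exact hfpow _ _ hq)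
    rw [this, ← hy]
    exact hk y (Ideal.pow_le_pow_right (by omega) hy')
  have hgker : ∀ q ∈ RingHom.ker f, g q = 0 := fun q hq => by
    have h := hinj q hq N le_rfl
    rw [pow_add] at h
    refine Submodule.mul_induction_on h (fun a ha b hb => ?_) fun a b ha hb => by rw [map_add, ha, hb, add_zero]
    rw [map_mul, ← Ideal.mem_bot, ← hI, pow_two]
    exact Ideal.mul_mem_mul (hgI a ha) (hgI b hb)
  let vC : (B ⧸ J ^ N) →ₐ[B ⧸ J] D :=
    (Ideal.Quotient.liftₐ _ g hgker).comp (Ideal.quotientKerAlgEquivOfSurjective hfs).symm.toAlgHom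
  have hvC : ∀ q, vC (f q) = g q := fun q => by
    show Ideal.Quotient.liftₐ _ g hgker ((Ideal.quotientKerAlgEquivOfSurjective hfs).symm (f q)) = g q
    rw [show f q = Ideal.quotientKerAlgEquivOfSurjective hfs (Ideal.Quotient.mk _ q) from rfl, AlgEquiv.symm_apply_apply]
    rfl
  refine ⟨(vC.restrictScalars A).comp (Ideal.Quotient.mkₐ A (J ^ N)), AlgHom.ext fun b => ?_⟩
  obtain ⟨q, hq⟩ := hfs (π b)
  show Ideal.Quotient.mk I (vC (π b)) = u b
  rw [← hq, hvC]
  have := AlgHom.congr_fun hg q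
  change Ideal.Quotient.mk I (g q) = uN (f q) at this
  rw [this, hq]
  rfl

/-- A derivation `B → J/J²` extending `J → J/J²`. -/
theorem exists_cotangent_derivation :
    ∃ d : B → J.Cotangent, (∀ a b, d (a + b) = d a + d b) ∧ (∀ a b, d (a * b) = a • d b + b • d a) ∧
      (∀ a, d (algebraMap A B a) = 0) ∧ (∀ x : J, d x = J.toCotangent x) ∧ (∀ x ∈ J ^ 2, d x = 0) := by
  classical
  let C := B ⧸ J
  let M := J.Cotangent
  have hJ2 : J ^ 2 ≤ J := Ideal.pow_le_self two_ne_zero
  have hsq : RingHom.ker ((Ideal.Quotient.factorₐ A hJ2 : B ⧸ J ^ 2 →ₐ[A] B ⧸ J) : B ⧸ J ^ 2 →+* B ⧸ J) = J.cotangentIdeal := by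
    show RingHom.ker (Ideal.Quotient.factor hJ2) = _
    rw [Ideal.Quotient.factor_ker]
    ext x
    obtain ⟨x, rfl⟩ := Ideal.Quotient.mk_surjective x
    rw [Ideal.mem_quotient_iff_mem hJ2, Ideal.mk_mem_cotangentIdeal]
  let σ : C →ₐ[A] B ⧸ J ^ 2 := Algebra.FormallySmooth.liftOfSurjective (AlgHom.id A C)
    (Ideal.Quotient.factorₐ A hJ2)
    (Ideal.Quotient.factor_surjective hJ2) ⟨2, by rw [hsq, Ideal.cotangentIdeal_square]; rfl⟩
  have hσ : ∀ b, Ideal.Quotient.mk (J ^ 2) b - σ (Ideal.Quotient.mk J b) ∈ J.cotangentIdeal := fun b => by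
    rw [← hsq, RingHom.mem_ker, map_sub]
    show Ideal.Quotient.factorₐ A hJ2 _ - Ideal.Quotient.factorₐ A hJ2 (σ _) = 0
    rw [Algebra.FormallySmooth.liftOfSurjective_apply]
    exact sub_self _
  let d : B → M := fun b => J.cotangentEquivIdeal.symm ⟨_, hσ b⟩
  have hd : ∀ b, J.cotangentToQuotientSquare (d b) = Ideal.Quotient.mk (J ^ 2) b - σ (Ideal.Quotient.mk J b) := fun b => by
    rw [← Ideal.cotangentEquivIdeal_apply, LinearEquiv.apply_symm_apply]
  have hinj := J.cotangentToQuotientSquare_injective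
  have hsmul : ∀ (r : B) (m : M), J.cotangentToQuotientSquare (r • m) =
      Ideal.Quotient.mk (J ^ 2) r * J.cotangentToQuotientSquare m := fun r m => by
    rw [map_smul, Algebra.smul_def]; rfl
  have hd_add : ∀ a b, d (a + b) = d a + d b := fun a b => hinj <| by
    simp only [map_add, hd]; ring
  have hd_J : ∀ x : J, d x = J.toCotangent x := fun x => hinj <| by
    rw [hd, Ideal.toCotangent_to_quotient_square, show Ideal.Quotient.mk J (x : B) = 0 from Ideal.Quotient.eq_zero_iff_mem.2 x.2,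
      map_zero, sub_zero]; rfl
  have hd_A : ∀ a, d (algebraMap A B a) = 0 := fun a => hinj <| by
    rw [hd, map_zero, show Ideal.Quotient.mk J (algebraMap A B a) = algebraMap A C a from rfl, AlgHom.commutes]
    exact sub_self _
  have hd_mul : ∀ a b, d (a * b) = a • d b + b • d a := fun a b => hinj <| by
    rw [map_add, hsmul, hsmul, hd, hd, hd, map_mul, map_mul, map_mul]
    have h0 : (Ideal.Quotient.mk (J ^ 2) a - σ (Ideal.Quotient.mk J a)) *
        (Ideal.Quotient.mk (J ^ 2) b - σ (Ideal.Quotient.mk J b)) = 0 := by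
      have h := Ideal.mul_mem_mul (hσ a) (hσ b)
      rwa [← pow_two J.cotangentIdeal, Ideal.cotangentIdeal_square, Ideal.mem_bot] at h
    linear_combination -h0
  have hd_sq : ∀ x ∈ J ^ 2, d x = 0 := fun x hx => by
    have := hd_J ⟨x, Ideal.pow_le_self two_ne_zero hx⟩
    rw [this, Ideal.toCotangent_eq_zero]; exact hx
  exact ⟨d, hd_add, hd_mul, hd_A, hd_J, hd_sq⟩

theorem isScalarTower_cotangent : IsScalarTower A (B ⧸ J) J.Cotangent :=
  IsScalarTower.of_algebraMap_smul fun a m => by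
    show (Ideal.Quotient.mk J (algebraMap A B a)) • m = a • m
    rw [← Ideal.Quotient.algebraMap_eq, algebraMap_smul, algebraMap_smul]

theorem projective_cotangent (h : CAlgX.IsAdicFormallySmooth A B J) :
    Module.Projective (B ⧸ J) J.Cotangent := by
  classical
  let C := B ⧸ J
  let M := J.Cotangent
  obtain ⟨d, hd_add, hd_mul, hd_A, hd_J, hd_sq⟩ := exists_cotangent_derivation (A := A) J
  have hd_zero : d 0 = 0 := hd_sq 0 (zero_mem _)
  haveI hAT : IsScalarTower A C M := isScalarTower_cotangent J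
  letI : Module Cᵐᵒᵖ M := Module.compHom M ((RingHom.id C).fromOpposite mul_comm)
  haveI : IsCentralScalar C M := ⟨fun _ _ => rfl⟩
  letI : Algebra A (TrivSqZeroExt C (M →₀ C)) := ((TrivSqZeroExt.inlHom C (M →₀ C)).comp (algebraMap A C)).toAlgebra
  letI : Algebra A (TrivSqZeroExt C M) := ((TrivSqZeroExt.inlHom C M).comp (algebraMap A C)).toAlgebra
  let π : (M →₀ C) →ₗ[C] M := Finsupp.linearCombination C id
  let Φ : TrivSqZeroExt C (M →₀ C) →ₐ[A] TrivSqZeroExt C M :=
    { (TrivSqZeroExt.map π : TrivSqZeroExt C (M →₀ C) →ₐ[C] TrivSqZeroExt C M).toRingHom with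
      commutes' := fun a => (TrivSqZeroExt.map π : TrivSqZeroExt C (M →₀ C) →ₐ[C] TrivSqZeroExt C M).commutes (algebraMap A C a) }
  have hΦf : ∀ z, (Φ z).fst = z.fst := fun z => TrivSqZeroExt.fst_map π z
  have hΦs : ∀ z, (Φ z).snd = π z.snd := fun z => TrivSqZeroExt.snd_map π z
  have hΦ : Function.Surjective Φ := fun z => by
    obtain ⟨m, hm⟩ := Finsupp.linearCombination_id_surjective C M z.snd
    exact ⟨TrivSqZeroExt.inl z.fst + TrivSqZeroExt.inr m, TrivSqZeroExt.ext (by simp [hΦf]) (by simp [hΦs, π, hm])⟩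
  have hker : RingHom.ker Φ ^ 2 = ⊥ := by
    rw [pow_two, eq_bot_iff, Ideal.mul_le]
    intro z hz w hw
    have hz0 : z.fst = 0 := by rw [← hΦf, show Φ z = 0 from hz, TrivSqZeroExt.fst_zero]
    have hw0 : w.fst = 0 := by rw [← hΦf, show Φ w = 0 from hw, TrivSqZeroExt.fst_zero]
    exact TrivSqZeroExt.ext (by simp [hz0]) (by simp [hz0, hw0])
  let w : B →ₐ[A] TrivSqZeroExt C M :=
    { toFun := fun b => TrivSqZeroExt.inl (Ideal.Quotient.mk J b) + TrivSqZeroExt.inr (d b)
      map_one' := by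
        have h1 := hd_A 1; rw [map_one] at h1
        simp [h1]
      map_zero' := by simp [hd_zero]
      map_add' := fun a b => by rw [map_add, hd_add, TrivSqZeroExt.inl_add, TrivSqZeroExt.inr_add]; abel
      map_mul' := fun a b => by
        refine TrivSqZeroExt.ext (by simp) ?_
        rw [TrivSqZeroExt.snd_mul, op_smul_eq_smul]
        simp only [TrivSqZeroExt.fst_add, TrivSqZeroExt.snd_add, TrivSqZeroExt.fst_inl, TrivSqZeroExt.fst_inr,
          TrivSqZeroExt.snd_inl, TrivSqZeroExt.snd_inr, zero_add, add_zero]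
        rw [← Ideal.Quotient.algebraMap_eq, algebraMap_smul, algebraMap_smul]
        exact hd_mul a b
      commutes' := fun a => by rw [hd_A]; simp; rfl }
  let e := Ideal.quotientKerAlgEquivOfSurjective hΦ
  obtain ⟨v, hv⟩ := h _ (RingHom.ker Φ) hker (e.symm.toAlgHom.comp w) ⟨2, fun x hx => by
    have : w x = 0 := TrivSqZeroExt.ext
      (by simp [w, Ideal.Quotient.eq_zero_iff_mem.2 (Ideal.pow_le_self two_ne_zero hx)])
      (by simp [w, hd_sq x hx])
    show e.symm (w x) = 0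
    rw [this, map_zero]⟩
  have hvw : ∀ b, Φ (v b) = w b := fun b => by
    have := congrArg e (AlgHom.congr_fun hv b)
    change Φ (v b) = e (e.symm (w b)) at this
    rwa [AlgEquiv.apply_symm_apply] at this
  have hfst : ∀ b, (v b).fst = Ideal.Quotient.mk J b := fun b => by
    rw [← hΦf, hvw]; simp [w]
  have hfst0 : ∀ x : J, (v x).fst = 0 := fun x => by rw [hfst, Ideal.Quotient.eq_zero_iff_mem.2 x.2]
  let h0 : J →ₗ[B] (M →₀ C) :=
    { toFun := fun x => (v x).snd
      map_add' := fun x y => by simp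
      map_smul' := fun r x => by
        rw [Submodule.coe_smul, smul_eq_mul, map_mul, TrivSqZeroExt.snd_mul, op_smul_eq_smul, hfst0, zero_smul,
          add_zero, hfst, ← Ideal.Quotient.algebraMap_eq, algebraMap_smul]; rfl }
  let hB : M →ₗ[B] (M →₀ C) := (J • (⊤ : Submodule B J)).liftQ h0 (Submodule.smul_le.2 fun r hr x _ => by
    show (v ((r • x : J) : B)).snd = 0
    rw [Submodule.coe_smul, smul_eq_mul, map_mul, TrivSqZeroExt.snd_mul, op_smul_eq_smul, hfst0,
      hfst r, Ideal.Quotient.eq_zero_iff_mem.2 hr, zero_smul, zero_smul, add_zero])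
  let hC : M →ₗ[C] (M →₀ C) :=
    { toFun := hB
      map_add' := map_add hB
      map_smul' := fun c m => by
        obtain ⟨r, rfl⟩ := Ideal.Quotient.mk_surjective c
        show hB (algebraMap B C r • m) = algebraMap B C r • hB m
        rw [algebraMap_smul, algebraMap_smul, map_smul] }
  refine Module.Projective.of_split hC π (LinearMap.ext fun m => ?_)
  obtain ⟨x, rfl⟩ := J.toCotangent_surjective m
  show π (v x).snd = J.toCotangent x
  rw [← hΦs, hvw, ← hd_J]
  simp [w]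

/-- The map `b ↦ b̄ + d b` into the symmetric algebra modulo `Q²`. -/
theorem exists_hom_symm_sq [IsScalarTower A (B ⧸ J) J.Cotangent] (d : B → J.Cotangent) (hd_add : ∀ a b, d (a + b) = d a + d b)
    (hd_mul : ∀ a b, d (a * b) = a • d b + b • d a) (hd_A : ∀ a, d (algebraMap A B a) = 0) (hd_zero : d 0 = 0) :
    ∃ w : B →ₐ[A] SymmetricAlgebra (B ⧸ J) J.Cotangent ⧸ augIdeal (B ⧸ J) J.Cotangent ^ 2, ∀ b, w b =
      Ideal.Quotient.mk _ (algebraMap (B ⧸ J) _ (Ideal.Quotient.mk J b) + SymmetricAlgebra.ι (B ⧸ J) J.Cotangent (d b)) := by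
  let C := B ⧸ J
  let M := J.Cotangent
  let Sy := SymmetricAlgebra C M
  let Q : Ideal Sy := augIdeal C M
  let m2 : Sy →+* Sy ⧸ Q ^ 2 := Ideal.Quotient.mk _
  have hιι : ∀ x y : M, m2 (SymmetricAlgebra.ι C M x * SymmetricAlgebra.ι C M y) = 0 := fun x y =>
    Ideal.Quotient.eq_zero_iff_mem.2 (by rw [pow_two]; exact Ideal.mul_mem_mul (ι_mem_augIdeal _) (ι_mem_augIdeal _))
  refine ⟨
    { toFun := fun b => m2 (algebraMap C Sy (Ideal.Quotient.mk J b) + SymmetricAlgebra.ι C M (d b))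
      map_one' := by
        have h1 := hd_A 1; rw [map_one] at h1
        simp [h1]
      map_zero' := by simp [hd_zero]
      map_add' := fun a b => by simp only [map_add, hd_add]; abel
      map_mul' := fun a b => by
        have hs' : ∀ (r : B) (x : M), SymmetricAlgebra.ι C M (r • x) =
            algebraMap C Sy (Ideal.Quotient.mk J r) * SymmetricAlgebra.ι C M x := fun r x => by
          rw [← Algebra.smul_def, ← map_smul, ← Ideal.Quotient.algebraMap_eq, algebraMap_smul]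
        rw [map_mul (Ideal.Quotient.mk J), map_mul (algebraMap C Sy), hd_mul, map_add (SymmetricAlgebra.ι C M), hs', hs', ← map_mul m2]
        refine Ideal.Quotient.eq.2 ?_
        have hm := neg_mem (Ideal.Quotient.eq_zero_iff_mem.1 (hιι (d a) (d b)))
        convert hm using 1
        ring
      commutes' := fun a => by
        rw [hd_A, map_zero, add_zero]
        show m2 (algebraMap C Sy (algebraMap A C a)) = _
        rw [← IsScalarTower.algebraMap_apply]; rfl }, fun b => rfl⟩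

/-- Lifting a map into `S/Q²` to a map into `S/Q^(n+1)`. -/
theorem exists_lift_quot_pow (h : CAlgX.IsAdicFormallySmooth A B J) {S : Type u} [CommRing S] [Algebra A S]
    (Q : Ideal S) (n : ℕ) (hn : 2 ≤ n + 1) (w : B →ₐ[A] S ⧸ Q ^ 2) (hw : ∃ k : ℕ, ∀ x ∈ J ^ k, w x = 0) :
    ∃ v : B →ₐ[A] S ⧸ Q ^ (n + 1), ∀ b x, w b = Ideal.Quotient.mk (Q ^ 2) x →
      v b - Ideal.Quotient.mk (Q ^ (n + 1)) x ∈ (Q.map (Ideal.Quotient.mk (Q ^ (n + 1)))) ^ 2 := by
  have hle : Q ^ (n + 1) ≤ Q ^ 2 := Ideal.pow_le_pow_right hn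
  let K : Ideal (S ⧸ Q ^ (n + 1)) := (Q ^ 2).map (Ideal.Quotient.mk _)
  have hK : K ^ 2 ^ (n + 1) = ⊥ := by
    rw [eq_bot_iff, ← Ideal.map_pow, ← pow_mul]
    refine le_trans (Ideal.map_mono (Ideal.pow_le_pow_right ?_)) (Ideal.map_quotient_self _).le
    have := Nat.lt_two_pow_self (n := n + 1); omega
  let e : ((S ⧸ Q ^ (n + 1)) ⧸ K) ≃ₐ[A] S ⧸ Q ^ 2 := DoubleQuot.quotQuotEquivQuotOfLEₐ A hle
  obtain ⟨k, hk⟩ := hw
  obtain ⟨v, -, hv⟩ := exists_lift_nilpotent h (n + 1) _ K hK (e.symm.toAlgHom.comp w) ⟨k, fun x hx => by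
    show e.symm (w x) = 0
    rw [hk x hx, map_zero]⟩
  refine ⟨v, fun b x hx => ?_⟩
  have := congrArg e (AlgHom.congr_fun hv b)
  change e (Ideal.Quotient.mk K (v b)) = e (e.symm (w b)) at this
  rw [AlgEquiv.apply_symm_apply, hx] at this
  have h2 : Ideal.Quotient.mk K (v b) = Ideal.Quotient.mk K (Ideal.Quotient.mk _ x) := e.injective (this.trans rfl)
  rw [← Ideal.map_pow]
  exact Ideal.Quotient.eq.1 h2

theorem pow_map_mk_self {S : Type*} [CommRing S] (Q : Ideal S) (n : ℕ) :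
    (Q.map (Ideal.Quotient.mk (Q ^ n))) ^ n = ⊥ := by
  rw [← Ideal.map_pow, Ideal.map_quotient_self]

omit [Algebra.FormallySmooth A (B ⧸ J)] in
theorem map_pow_mem {S : Type u} [CommRing S] (v : B →+* S) (P : Ideal S)
    (hv : J.map v ≤ P) (n : ℕ) {y : B} (hy : y ∈ J ^ n) : v y ∈ P ^ n :=
  Ideal.pow_right_mono hv n (by rw [← Ideal.map_pow]; exact Ideal.mem_map_of_mem v hy)

theorem injective_zetaJ (h : CAlgX.IsAdicFormallySmooth A B J) [Module.Projective (B ⧸ J) J.Cotangent]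
    (ι : Type u) [Fintype ι] [Nonempty ι]
    (φ : SymmetricPower B ι J.Cotangent →ₗ[B] PP16.grJ B J (Fintype.card ι))
    (hφ : ∀ x : ι → ↥J, φ (SymmetricPower.tprod B (fun i => J.toCotangent (x i))) = PP16.zetaJ B J x) :
    Function.Injective φ := by
  classical
  let C := B ⧸ J
  let M := J.Cotangent
  obtain ⟨d, hd_add, hd_mul, hd_A, hd_J, hd_sq⟩ := exists_cotangent_derivation (A := A) J
  have hd_zero : d 0 = 0 := hd_sq 0 (zero_mem _)
  haveI hAT : IsScalarTower A C M := isScalarTower_cotangent J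
  refine (injective_iff_map_eq_zero φ).2 fun s hs => ?_
  let Sy := SymmetricAlgebra C M
  let Q : Ideal Sy := augIdeal C M
  let n := Fintype.card ι
  have hn : 2 ≤ n + 1 := by have := Fintype.card_pos (α := ι); omega
  have hle : Q ^ (n + 1) ≤ Q ^ 2 := Ideal.pow_le_pow_right hn
  obtain ⟨w, hw⟩ := exists_hom_symm_sq J d hd_add hd_mul hd_A hd_zero
  let m2 : Sy →+* Sy ⧸ Q ^ 2 := Ideal.Quotient.mk _
  obtain ⟨v, hv⟩ := exists_lift_quot_pow J h Q n hn w ⟨2, fun x hx => by
    rw [hw]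
    simp [Ideal.Quotient.eq_zero_iff_mem.2 (Ideal.pow_le_self two_ne_zero hx), hd_sq x hx]⟩
  let mn : Sy →+* Sy ⧸ Q ^ (n + 1) := Ideal.Quotient.mk _
  let P : Ideal (Sy ⧸ Q ^ (n + 1)) := Q.map mn
  have hvw : ∀ b, v b - mn (algebraMap C Sy (Ideal.Quotient.mk J b) + SymmetricAlgebra.ι C M (d b)) ∈ P ^ 2 := fun b =>
    hv b _ (hw b)
  have hP2 : P ^ 2 ≤ P := Ideal.pow_le_self two_ne_zero
  have hιP : ∀ y, mn (SymmetricAlgebra.ι C M y) ∈ P := fun y => Ideal.mem_map_of_mem _ (ι_mem_augIdeal y)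
  have hvJ : J.map v.toRingHom ≤ P := by
    rw [Ideal.map_le_iff_le_comap]
    intro x hx
    have h1 := hP2 (hvw x)
    rw [show Ideal.Quotient.mk J x = 0 from Ideal.Quotient.eq_zero_iff_mem.2 hx, map_zero, zero_add] at h1
    simpa using add_mem h1 (hιP (d x))
  obtain ⟨y, hy, hy'⟩ := compare J v.toRingHom mn P hvJ le_rfl
    (fun x => by
      have h1 := hvw x
      rw [show Ideal.Quotient.mk J (x : B) = 0 from Ideal.Quotient.eq_zero_iff_mem.2 x.2, map_zero, zero_add, hd_J] at h1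
      exact h1)
    (fun r => by
      have h1 := hP2 (hvw r)
      rw [map_add, ← sub_sub] at h1
      simpa using add_mem h1 (hιP (d r)))
    ι φ hφ s
  have hPn : P ^ (n + 1) = ⊥ := pow_map_mk_self Q (n + 1)
  have hy0 : v (y : B) = 0 := by
    rw [hy, Submodule.Quotient.mk_eq_zero, Submodule.mem_comap, Submodule.subtype_apply] at hs
    have : v (y : B) ∈ P ^ (n + 1) := map_pow_mem J v.toRingHom P hvJ _ hs
    rwa [hPn, Ideal.mem_bot] at this
  refine eq_zero_of_symToAlg_mem (C := C) Ideal.Quotient.mk_surjective ι s ?_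
  rw [← Ideal.Quotient.eq_zero_iff_mem]
  have h3 : v (y : B) - mn (symToAlg B (C := C) ι s) ∈ P ^ (n + 1) := hy'
  rw [hPn, Ideal.mem_bot, hy0, zero_sub, neg_eq_zero] at h3
  exact h3

theorem symGr_of_isAdicFormallySmooth (h : CAlgX.IsAdicFormallySmooth A B J) :
    Module.Projective (B ⧸ J) J.Cotangent ∧ PP16.SymGrBijective B J := by
  haveI := projective_cotangent J h
  refine ⟨this, fun ι _ _ => ?_⟩
  obtain ⟨φ, hφ, hφs⟩ := exists_surjective_zetaJ J ι
  exact ⟨φ, hφ, injective_zetaJ J h ι φ hφ, hφs⟩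

theorem isAdicFormallySmooth_iff_symGr :
    CAlgX.IsAdicFormallySmooth A B J ↔ (Module.Projective (B ⧸ J) J.Cotangent ∧ PP16.SymGrBijective B J) :=
  ⟨symGr_of_isAdicFormallySmooth J, fun h => isAdicFormallySmooth_of_symGr J h.1 h.2⟩

end Groth.Agent.SymGrLib
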