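import Groth.Agent.SymGrLib.SymPower
import Groth.Prelude.Def_PP16
import Groth.Prelude.Def_CAlgX

/-!
Comparison of the symmetric algebra of `J/J²` with the graded ring of `J`.
-/

set_option autoImplicit false
set_option linter.style.haveILetI false
universe u

namespace Groth.Agent.SymGrLib

/-- Adic formal smoothness gives lifting along nilpotent ideals. -/
theorem exists_lift_nilpotent {A B : Type u} [CommRing A] [CommRing B] [Algebra A B] {𝔫 : Ideal B}
    (h : CAlgX.IsAdicFormallySmooth A B 𝔫) :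
    ∀ (n : ℕ) (D : Type u) [CommRing D] [Algebra A D] (I : Ideal D), I ^ 2 ^ n = ⊥ →
      ∀ u : B →ₐ[A] D ⧸ I, (∃ k : ℕ, ∀ x ∈ 𝔫 ^ k, u x = 0) →
        ∃ v : B →ₐ[A] D, (∃ k : ℕ, ∀ x ∈ 𝔫 ^ k, v x = 0) ∧ (Ideal.Quotient.mkₐ A I).comp v = u := by
  intro n
  induction n with
  | zero =>
    intro D _ _ I hI u hu
    rw [pow_zero, pow_one] at hI
    subst hI
    let e := AlgEquiv.quotientBot A D
    refine ⟨e.toAlgHom.comp u, ?_, AlgHom.ext fun b => ?_⟩
    · obtain ⟨k, hk⟩ := hu
      exact ⟨k, fun x hx => by show e (u x) = 0; rw [hk x hx, map_zero]⟩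
    · obtain ⟨d, hd⟩ := Ideal.Quotient.mk_surjective (u b)
      show Ideal.Quotient.mk ⊥ (e (u b)) = u b
      rw [← hd]
      rfl
  | succ n ih =>
    intro D _ _ I hI u hu
    let I' := I ^ 2 ^ n
    have hI' : I' ^ 2 = ⊥ := by rw [← pow_mul, ← pow_succ]; exact hI
    have hle : I' ≤ I := Ideal.pow_le_self (by positivity)
    let e : ((D ⧸ I') ⧸ I.map (Ideal.Quotient.mk I')) ≃ₐ[A] D ⧸ I := DoubleQuot.quotQuotEquivQuotOfLEₐ A hle
    obtain ⟨v', hv'k, hv'⟩ := ih (D ⧸ I') (I.map (Ideal.Quotient.mk I'))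
      (by rw [← Ideal.map_pow, Ideal.map_quotient_self]) (e.symm.toAlgHom.comp u)
      (by obtain ⟨k, hk⟩ := hu; exact ⟨k, fun x hx => by show e.symm (u x) = 0; rw [hk x hx, map_zero]⟩)
    obtain ⟨v, hv⟩ := h D I' hI' v' hv'k
    refine ⟨v, ?_, AlgHom.ext fun b => ?_⟩
    · obtain ⟨k, hk⟩ := hv'k
      refine ⟨k + k, fun x hx => ?_⟩
      have hmem : ∀ z ∈ 𝔫 ^ k, v z ∈ I' := fun z hz => Ideal.Quotient.eq_zero_iff_mem.1 <| by
        have := AlgHom.congr_fun hv z; simp only [AlgHom.comp_apply, Ideal.Quotient.mkₐ_eq_mk] at this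
        rw [this, hk z hz]
      rw [pow_add] at hx
      refine Submodule.mul_induction_on hx (fun a ha b hb => ?_) fun a b ha hb => by rw [map_add, ha, hb, add_zero]
      rw [map_mul, ← Ideal.mem_bot, ← hI', pow_two]
      exact Ideal.mul_mem_mul (hmem a ha) (hmem b hb)
    · have h1 := AlgHom.congr_fun hv b
      have h2 := AlgHom.congr_fun hv' b
      simp only [AlgHom.comp_apply, Ideal.Quotient.mkₐ_eq_mk] at h1 h2 ⊢
      have h3 := congrArg e h2
      rw [← h1] at h3
      change _ = e (e.symm (u b)) at h3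
      rw [e.apply_symm_apply] at h3
      exact h3

theorem prod_sub_prod_mem {S ι : Type*} [CommRing S] (P : Ideal S) (s : Finset ι) (a b : ι → S)
    (ha : ∀ i ∈ s, a i ∈ P) (hb : ∀ i ∈ s, b i ∈ P) (h : ∀ i ∈ s, a i - b i ∈ P ^ 2) :
    ∏ i ∈ s, a i - ∏ i ∈ s, b i ∈ P ^ (s.card + 1) := by
  classical
  induction s using Finset.induction_on with
  | empty => simp
  | insert i t hit ih =>
    rw [Finset.prod_insert hit, Finset.prod_insert hit, Finset.card_insert_of_notMem hit,
      show a i * ∏ j ∈ t, a j - b i * ∏ j ∈ t, b j =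
        (a i - b i) * ∏ j ∈ t, a j + b i * (∏ j ∈ t, a j - ∏ j ∈ t, b j) by ring]
    have h1 : ∏ j ∈ t, a j ∈ P ^ t.card := by
      rw [← Finset.prod_const]
      exact Ideal.prod_mem_prod fun j hj => ha j (Finset.mem_insert_of_mem hj)
    refine add_mem ?_ ?_
    · rw [show t.card + 1 + 1 = 2 + t.card by ring, pow_add]
      exact Ideal.mul_mem_mul (h i (Finset.mem_insert_self _ _)) h1
    · rw [pow_succ']
      exact Ideal.mul_mem_mul (hb i (Finset.mem_insert_self _ _))
        (ih (fun j hj => ha j (Finset.mem_insert_of_mem hj)) (fun j hj => hb j (Finset.mem_insert_of_mem hj))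
          (fun j hj => h j (Finset.mem_insert_of_mem hj)))

variable {R : Type u} [CommRing R] (J : Ideal R)

theorem grJ_mk_eq_iff {n : ℕ} (x y : ↥(J ^ n)) :
    (Submodule.Quotient.mk x : PP16.grJ R J n) = Submodule.Quotient.mk y ↔ (x : R) - y ∈ J ^ (n + 1) := by
  rw [Submodule.Quotient.eq, Submodule.mem_comap]
  rfl

/-- The canonical map `Sym^n(J/J²) → J^n/J^(n+1)` exists and is surjective. -/
theorem exists_surjective_zetaJ (ι : Type u) [Fintype ι] :
    ∃ φ : SymmetricPower R ι J.Cotangent →ₗ[R] PP16.grJ R J (Fintype.card ι),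
      (∀ x : ι → ↥J, φ (SymmetricPower.tprod R (fun i => J.toCotangent (x i))) = PP16.zetaJ R J x) ∧
        Function.Surjective φ := by
  classical
  choose rep hrep using J.toCotangent_surjective
  have hz : ∀ x y : ι → ↥J, (∀ i, J.toCotangent (x i) = J.toCotangent (y i)) → PP16.zetaJ R J x = PP16.zetaJ R J y := by
    intro x y h
    rw [PP16.zetaJ, PP16.zetaJ, grJ_mk_eq_iff]
    show ∏ i, (x i : R) - ∏ i, (y i : R) ∈ _
    rw [← Finset.card_univ]
    exact prod_sub_prod_mem J _ _ _ (fun i _ => (x i).2) (fun i _ => (y i).2) fun i _ => Ideal.toCotangent_eq J |>.1 (h i)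
  let m : MultilinearMap R (fun _ : ι => J.Cotangent) (PP16.grJ R J (Fintype.card ι)) :=
    { toFun := fun x => PP16.zetaJ R J fun i => rep (x i)
      map_update_add' := fun x i a b => by
        have hu : ∀ c : J.Cotangent, ∀ j, J.toCotangent (Function.update (fun i => rep (x i)) i (rep c) j) =
            Function.update x i c j := fun c j => by
          rcases eq_or_ne j i with rfl | hj
          · simp [hrep]
          · simp [Function.update_of_ne hj, hrep]
        rw [hz _ (Function.update (fun i => rep (x i)) i (rep a + rep b)) fun j => by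
            rw [hrep]; rcases eq_or_ne j i with rfl | hj
            · simp [hrep]
            · simp [Function.update_of_ne hj, hrep],
          hz (fun j => rep (Function.update x i a j)) (Function.update (fun i => rep (x i)) i (rep a)) fun j => by
            rw [hrep, hu],
          hz (fun j => rep (Function.update x i b j)) (Function.update (fun i => rep (x i)) i (rep b)) fun j => by
            rw [hrep, hu]]
        rw [PP16.zetaJ, PP16.zetaJ, PP16.zetaJ, ← Submodule.Quotient.mk_add]
        congr 1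
        refine Subtype.ext ?_
        show ∏ j, _ = ∏ j, _ + ∏ j, _
        simp only [Function.apply_update (fun _ => Subtype.val (p := (· ∈ J))),
          Finset.prod_update_of_mem (Finset.mem_univ i), Submodule.coe_add, add_mul]
      map_update_smul' := fun x i r a => by
        have hu : ∀ c : J.Cotangent, ∀ j, J.toCotangent (Function.update (fun i => rep (x i)) i (rep c) j) =
            Function.update x i c j := fun c j => by
          rcases eq_or_ne j i with rfl | hj
          · simp [hrep]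
          · simp [Function.update_of_ne hj, hrep]
        rw [hz _ (Function.update (fun i => rep (x i)) i (r • rep a)) fun j => by
            rw [hrep]; rcases eq_or_ne j i with rfl | hj
            · simp [hrep]
            · simp [Function.update_of_ne hj, hrep],
          hz (fun j => rep (Function.update x i a j)) (Function.update (fun i => rep (x i)) i (rep a)) fun j => by
            rw [hrep, hu]]
        rw [PP16.zetaJ, PP16.zetaJ, ← Submodule.Quotient.mk_smul]
        congr 1
        refine Subtype.ext ?_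
        show ∏ j, _ = r * ∏ j, _
        simp only [Function.apply_update (fun _ => Subtype.val (p := (· ∈ J))),
          Finset.prod_update_of_mem (Finset.mem_univ i), Submodule.coe_smul, smul_eq_mul, mul_assoc] }
  have hsym : ∀ (e : Equiv.Perm ι) (f : ι → J.Cotangent), m (fun i => f (e i)) = m f := fun e f => by
    show PP16.zetaJ R J _ = PP16.zetaJ R J _
    rw [PP16.zetaJ, PP16.zetaJ]
    congr 1
    exact Subtype.ext (Equiv.prod_comp e fun i => (rep (f i) : R))
  let φ := symLift m hsym
  have hφ : ∀ x : ι → ↥J, φ (SymmetricPower.tprod R fun i => J.toCotangent (x i)) = PP16.zetaJ R J x := fun x => by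
    rw [symLift_tprod]
    exact hz _ _ fun i => hrep _
  refine ⟨φ, hφ, fun q => ?_⟩
  obtain ⟨⟨y, hy⟩, rfl⟩ := Submodule.Quotient.mk_surjective _ q
  have hle : J ^ Fintype.card ι ≤ Ideal.span (Set.range fun x : ι → ↥J => ∏ i, (x i : R)) := by
    conv_lhs => rw [← Ideal.span_eq J, Ideal.span, Submodule.span_pow]
    refine Ideal.span_mono fun z hz => ?_
    obtain ⟨f, hf⟩ := Set.mem_pow.1 hz
    obtain ⟨e⟩ : Nonempty (Fin (Fintype.card ι) ≃ ι) := ⟨(Fintype.equivFin ι).symm⟩
    refine ⟨fun i => ⟨f (e.symm i), (f (e.symm i)).2⟩, ?_⟩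
    dsimp only
    rw [← hf, List.prod_ofFn, ← Equiv.prod_comp e]
    simp
  have hy' := hle hy
  induction hy' using Submodule.span_induction with
  | mem z hz =>
    obtain ⟨x, rfl⟩ := hz
    exact ⟨_, hφ x⟩
  | zero => exact ⟨0, by rw [map_zero]; rfl⟩
  | add a b ha' hb' ha hb =>
    have hmem : Ideal.span (Set.range fun x : ι → ↥J => ∏ i, (x i : R)) ≤ J ^ Fintype.card ι := by
      refine Ideal.span_le.2 ?_
      rintro _ ⟨x, rfl⟩
      show ∏ i, (x i : R) ∈ _
      rw [← Finset.card_univ, ← Finset.prod_const]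
      exact Ideal.prod_mem_prod fun i _ => (x i).2
    obtain ⟨s, hs⟩ := ha (hmem ha')
    obtain ⟨t, ht⟩ := hb (hmem hb')
    exact ⟨s + t, by rw [map_add, hs, ht]; rfl⟩
  | smul r a ha' ha =>
    have hmem : Ideal.span (Set.range fun x : ι → ↥J => ∏ i, (x i : R)) ≤ J ^ Fintype.card ι := by
      refine Ideal.span_le.2 ?_
      rintro _ ⟨x, rfl⟩
      show ∏ i, (x i : R) ∈ _
      rw [← Finset.card_univ, ← Finset.prod_const]
      exact Ideal.prod_mem_prod fun i _ => (x i).2
    obtain ⟨s, hs⟩ := ha (hmem ha')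
    exact ⟨r • s, by rw [map_smul, hs]; rfl⟩

/-- Two compatible ring homomorphisms from `R` and from the symmetric algebra of `J/J²`. -/
theorem compare {S : Type u} [CommRing S] (a : R →+* S) (b : SymmetricAlgebra (R ⧸ J) J.Cotangent →+* S)
    (P : Ideal S) (ha : J.map a ≤ P) (hb : (augIdeal (R ⧸ J) J.Cotangent).map b ≤ P)
    (h1 : ∀ x : J, a x - b (SymmetricAlgebra.ι (R ⧸ J) J.Cotangent (J.toCotangent x)) ∈ P ^ 2)
    (h0 : ∀ r : R, a r - b (algebraMap (R ⧸ J) _ (Ideal.Quotient.mk J r)) ∈ P)
    (ι : Type u) [Fintype ι] (φ : SymmetricPower R ι J.Cotangent →ₗ[R] PP16.grJ R J (Fintype.card ι))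
    (hφ : ∀ x : ι → ↥J, φ (SymmetricPower.tprod R (fun i => J.toCotangent (x i))) = PP16.zetaJ R J x)
    (s : SymmetricPower R ι J.Cotangent) :
    ∃ y : ↥(J ^ Fintype.card ι), φ s = Submodule.Quotient.mk y ∧
      a y - b (symToAlg R (C := R ⧸ J) ι s) ∈ P ^ (Fintype.card ι + 1) := by
  have hay : ∀ n, ∀ y ∈ J ^ n, a y ∈ P ^ n := fun n y hy =>
    Ideal.pow_right_mono ha n (by rw [← Ideal.map_pow]; exact Ideal.mem_map_of_mem a hy)
  have hs : s ∈ Submodule.span R (Set.range (SymmetricPower.tprod R (ι := ι) (M := J.Cotangent))) := by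
    rw [SymmetricPower.span_tprod_eq_top]; trivial
  induction hs using Submodule.span_induction with
  | mem z hz =>
    obtain ⟨x, rfl⟩ := hz
    choose rep hrep using fun i => J.toCotangent_surjective (x i)
    rw [← funext hrep] at *
    refine ⟨_, hφ rep, ?_⟩
    rw [symToAlg_tprod, map_prod, map_prod]
    exact prod_sub_prod_mem P _ _ _ (fun i _ => ha (Ideal.mem_map_of_mem a (rep i).2))
      (fun i _ => hb (Ideal.mem_map_of_mem b (ι_mem_augIdeal _))) fun i _ => h1 (rep i)
  | zero => exact ⟨0, by rw [map_zero]; rfl, by simp⟩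
  | add z w _ _ hz hw =>
    obtain ⟨y, hy, hy'⟩ := hz
    obtain ⟨y', hy2, hy2'⟩ := hw
    refine ⟨y + y', by rw [map_add, hy, hy2]; rfl, ?_⟩
    rw [Submodule.coe_add, map_add, map_add, map_add, add_sub_add_comm]
    exact add_mem hy' hy2'
  | smul r z _ hz =>
    obtain ⟨y, hy, hy'⟩ := hz
    refine ⟨r • y, by rw [map_smul, hy]; rfl, ?_⟩
    rw [Submodule.coe_smul, smul_eq_mul, map_mul, map_smul, Algebra.smul_def, map_mul,
      IsScalarTower.algebraMap_apply R (R ⧸ J) (SymmetricAlgebra (R ⧸ J) J.Cotangent), Ideal.Quotient.algebraMap_eq,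
      show a r * a (y : R) - b (algebraMap _ _ (Ideal.Quotient.mk J r)) * b (symToAlg R ι z) =
        (a r - b (algebraMap _ _ (Ideal.Quotient.mk J r))) * a (y : R) +
          b (algebraMap _ _ (Ideal.Quotient.mk J r)) * (a (y : R) - b (symToAlg R ι z)) by ring]
    refine add_mem ?_ (Ideal.mul_mem_left _ _ hy')
    rw [pow_succ']
    exact Ideal.mul_mem_mul (h0 r) (hay _ _ y.2)

end Groth.Agent.SymGrLib
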