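import Mathlib

/-!
Symmetric powers of a module over a quotient ring and the symmetric algebra.
-/

set_option autoImplicit false
set_option linter.style.haveILetI false
universe u
open scoped TensorProduct

namespace Groth.Agent.SymGrLib

section Lift

variable {R : Type u} [CommRing R] {ι : Type u} {M N : Type u} [AddCommGroup M] [Module R M] [AddCommGroup N] [Module R N]

theorem symm_ext {f g : SymmetricPower R ι M →ₗ[R] N}
    (h : ∀ x : ι → M, f (SymmetricPower.tprod R x) = g (SymmetricPower.tprod R x)) : f = g :=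
  LinearMap.ext_on (SymmetricPower.span_tprod_eq_top R ι M) (by rintro _ ⟨x, rfl⟩; exact h x)

/-- Universal property of symmetric powers. -/
noncomputable def symLift (m : MultilinearMap R (fun _ : ι => M) N)
    (hm : ∀ (e : Equiv.Perm ι) (f : ι → M), m (fun i => f (e i)) = m f) : SymmetricPower R ι M →ₗ[R] N where
  toFun := (addConGen (SymmetricPower.Rel R ι M)).lift (PiTensorProduct.lift m).toAddMonoidHom
    (AddCon.addConGen_le.2 fun x y hxy => by
      cases hxy with
      | perm e f =>
        rw [AddCon.ker_rel]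
        simp [hm])
  map_add' := map_add _
  map_smul' r x := AddCon.induction_on x fun x => by
    show PiTensorProduct.lift m (r • x) = r • PiTensorProduct.lift m x
    rw [map_smul]

theorem symLift_tprod (m : MultilinearMap R (fun _ : ι => M) N)
    (hm : ∀ (e : Equiv.Perm ι) (f : ι → M), m (fun i => f (e i)) = m f) (x : ι → M) :
    symLift m hm (SymmetricPower.tprod R x) = m x :=
  PiTensorProduct.lift.tprod x

theorem smul_eq_zero [Nonempty ι] (r : R) (hr : ∀ x : M, r • x = 0) (s : SymmetricPower R ι M) : r • s = 0 := by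
  classical
  have : (r • LinearMap.id : SymmetricPower R ι M →ₗ[R] SymmetricPower R ι M) = 0 := symm_ext fun x => by
    let i := Classical.arbitrary ι
    show r • SymmetricPower.tprod R x = 0
    conv_lhs => rw [← Function.update_eq_self i x]
    rw [← MultilinearMap.map_update_smul, hr, MultilinearMap.map_update_zero]
  exact LinearMap.congr_fun this s

end Lift

section SymAlg

variable {R C : Type u} [CommRing R] [CommRing C] [Algebra R C] {M : Type u} [AddCommGroup M] [Module R M]
  [Module C M] [IsScalarTower R C M]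

variable (C M) in
/-- The augmentation ideal of the symmetric algebra. -/
noncomputable def augIdeal : Ideal (SymmetricAlgebra C M) :=
  Ideal.span (Set.range (SymmetricAlgebra.ι C M))

theorem ι_mem_augIdeal (x : M) : SymmetricAlgebra.ι C M x ∈ augIdeal C M := Ideal.subset_span ⟨x, rfl⟩

theorem exists_sub_algebraMap_mem (q : SymmetricAlgebra C M) :
    ∃ c : C, q - algebraMap C _ c ∈ augIdeal C M := by
  induction q using SymmetricAlgebra.induction with
  | algebraMap c => exact ⟨c, by rw [sub_self]; exact Ideal.zero_mem _⟩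
  | ι x => exact ⟨0, by rw [map_zero, sub_zero]; exact ι_mem_augIdeal x⟩
  | mul a b ha hb =>
    obtain ⟨c, hc⟩ := ha
    obtain ⟨c', hc'⟩ := hb
    refine ⟨c * c', ?_⟩
    rw [map_mul, show a * b - algebraMap C (SymmetricAlgebra C M) c * algebraMap C _ c' =
      (a - algebraMap C _ c) * b + algebraMap C _ c * (b - algebraMap C _ c') by ring]
    exact add_mem (Ideal.mul_mem_right _ _ hc) (Ideal.mul_mem_left _ _ hc')
  | add a b ha hb =>
    obtain ⟨c, hc⟩ := ha
    obtain ⟨c', hc'⟩ := hb
    exact ⟨c + c', by rw [map_add, add_sub_add_comm]; exact add_mem hc hc'⟩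

variable (R) in
/-- Products of `n` generators in the symmetric algebra. -/
noncomputable def symToAlg (ι : Type u) [Fintype ι] : SymmetricPower R ι M →ₗ[R] SymmetricAlgebra C M :=
  symLift ((MultilinearMap.mkPiAlgebra R ι (SymmetricAlgebra C M)).compLinearMap
      fun _ => (SymmetricAlgebra.ι C M).restrictScalars R) fun e f => by
    simp only [MultilinearMap.compLinearMap_apply, MultilinearMap.mkPiAlgebra_apply]
    exact Equiv.prod_comp e fun i => SymmetricAlgebra.ι C M (f i)

theorem symToAlg_tprod (ι : Type u) [Fintype ι] (x : ι → M) :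
    symToAlg R (C := C) ι (SymmetricPower.tprod R x) = ∏ i, SymmetricAlgebra.ι C M (x i) := by
  rw [symToAlg, symLift_tprod]
  simp

theorem symToAlg_mem (ι : Type u) [Fintype ι] (s : SymmetricPower R ι M) :
    symToAlg R (C := C) ι s ∈ augIdeal C M ^ Fintype.card ι := by
  have hs : s ∈ Submodule.span R (Set.range (SymmetricPower.tprod R (ι := ι) (M := M))) := by
    rw [SymmetricPower.span_tprod_eq_top]; trivial
  refine (Submodule.span_le (p := ((augIdeal C M ^ Fintype.card ι).restrictScalars R).comap (symToAlg R ι))).2 ?_ hs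
  rintro _ ⟨x, rfl⟩
  show symToAlg R ι _ ∈ augIdeal C M ^ Fintype.card ι
  rw [symToAlg_tprod, Fintype.card, ← Finset.prod_const]
  exact Ideal.prod_mem_prod fun i _ => ι_mem_augIdeal _

/-- Modulo the next power of the augmentation ideal, every element of `Q^n` is a sum of products. -/
theorem exists_symToAlg_sub_mem (hC : Function.Surjective (algebraMap R C)) (ι : Type u) [Fintype ι]
    (q : SymmetricAlgebra C M) (hq : q ∈ augIdeal C M ^ Fintype.card ι) :
    ∃ s : SymmetricPower R ι M, q - symToAlg R ι s ∈ augIdeal C M ^ (Fintype.card ι + 1) := by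
  classical
  let P : Set (SymmetricAlgebra C M) := Set.range fun x : ι → M => ∏ i, SymmetricAlgebra.ι C M (x i)
  have hle : augIdeal C M ^ Fintype.card ι ≤ Ideal.span P := by
    obtain ⟨e⟩ : Nonempty (Fin (Fintype.card ι) ≃ ι) := ⟨(Fintype.equivFin ι).symm⟩
    rw [augIdeal, Ideal.span, Submodule.span_pow]
    refine Ideal.span_mono fun z hz => ?_
    obtain ⟨f, hf⟩ := Set.mem_pow.1 hz
    choose x hx using fun i => (f i).2
    refine ⟨fun i => x (e.symm i), ?_⟩
    dsimp only
    rw [← hf, List.prod_ofFn, ← Equiv.prod_comp e]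
    simp [hx]
  have hq' := hle hq
  induction hq' using Submodule.span_induction with
  | mem z hz =>
    obtain ⟨x, rfl⟩ := hz
    exact ⟨SymmetricPower.tprod R x, by dsimp only; rw [symToAlg_tprod, sub_self]; exact Ideal.zero_mem _⟩
  | zero => exact ⟨0, by rw [map_zero, sub_self]; exact Ideal.zero_mem _⟩
  | add a b ha' hb' ha hb =>
    have hmem : ∀ z ∈ Ideal.span P, z ∈ augIdeal C M ^ Fintype.card ι := fun z hz => by
      refine (Ideal.span_le.2 ?_ : Ideal.span P ≤ _) hz
      rintro _ ⟨x, rfl⟩
      dsimp only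
      rw [← symToAlg_tprod (R := R)]
      exact symToAlg_mem ι _
    obtain ⟨s, hs⟩ := ha (hmem a ha')
    obtain ⟨s', hs'⟩ := hb (hmem b hb')
    exact ⟨s + s', by rw [map_add, add_sub_add_comm]; exact add_mem hs hs'⟩
  | smul r a ha' ha =>
    have hmem : ∀ z ∈ Ideal.span P, z ∈ augIdeal C M ^ Fintype.card ι := fun z hz => by
      refine (Ideal.span_le.2 ?_ : Ideal.span P ≤ _) hz
      rintro _ ⟨x, rfl⟩
      dsimp only
      rw [← symToAlg_tprod (R := R)]
      exact symToAlg_mem ι _
    obtain ⟨s, hs⟩ := ha (hmem a ha')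
    obtain ⟨c, hc⟩ := exists_sub_algebraMap_mem r
    obtain ⟨b, rfl⟩ := hC c
    refine ⟨b • s, ?_⟩
    rw [map_smul, smul_eq_mul, Algebra.smul_def, IsScalarTower.algebraMap_apply R C (SymmetricAlgebra C M),
      show r * a - algebraMap C (SymmetricAlgebra C M) (algebraMap R C b) * symToAlg R ι s =
        (r - algebraMap C _ (algebraMap R C b)) * a + algebraMap C _ (algebraMap R C b) * (a - symToAlg R ι s) by ring]
    refine add_mem ?_ (Ideal.mul_mem_left _ _ hs)
    rw [pow_succ']
    exact Ideal.mul_mem_mul hc (hmem a ha')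

theorem exists_perm_of_sum_single_eq {ι : Type u} {σ : Type*} [Fintype ι] {f g : ι → σ}
    (h : ∑ i, Finsupp.single (f i) (1 : ℕ) = ∑ i, Finsupp.single (g i) 1) :
    ∃ e : Equiv.Perm ι, ∀ i, g (e i) = f i := by
  classical
  have hc : ∀ s, Fintype.card {i // f i = s} = Fintype.card {i // g i = s} := fun s => by
    have := DFunLike.congr_fun h s
    simp only [Finsupp.coe_finsetSum, Finset.sum_apply, Finsupp.single_apply, Finset.sum_boole] at this
    rw [Fintype.card_subtype, Fintype.card_subtype]
    exact_mod_cast this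
  exact ⟨Equiv.ofFiberEquiv fun s => Fintype.equivOfCardEq (hc s), fun i => Equiv.ofFiberEquiv_map _ i⟩

/-- For projective `M`, products of `n` generators are independent modulo `Q^(n+1)`. -/
theorem eq_zero_of_symToAlg_mem [Module.Projective C M] (hC : Function.Surjective (algebraMap R C)) (ι : Type u)
    [Fintype ι] [Nonempty ι] (s : SymmetricPower R ι M)
    (hs : symToAlg R (C := C) ι s ∈ augIdeal C M ^ (Fintype.card ι + 1)) : s = 0 := by
  classical
  let π : (M →₀ C) →ₗ[C] M := Finsupp.linearCombination C id
  obtain ⟨sec, hsec⟩ := Module.projective_lifting_property π LinearMap.id (Finsupp.linearCombination_id_surjective C M)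
  let X : (M →₀ C) →ₗ[C] MvPolynomial M C := Finsupp.linearCombination C MvPolynomial.X
  let L : SymmetricAlgebra C M →ₐ[C] MvPolynomial M C := SymmetricAlgebra.lift (X ∘ₗ sec)
  let Sym := SymmetricPower R ι M
  have hker : ∀ r ∈ RingHom.ker (algebraMap R C), ∀ x : M, r • x = 0 := fun r hr x => by
    rw [← algebraMap_smul C r x, show algebraMap R C r = 0 from hr, zero_smul]
  let T : (M →₀ ℕ) → Sym := fun d =>
    if h : ∃ f : ι → M, ∑ i, Finsupp.single (f i) (1 : ℕ) = d then SymmetricPower.tprod R h.choose else 0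
  have hT : ∀ f : ι → M, T (∑ i, Finsupp.single (f i) (1 : ℕ)) = SymmetricPower.tprod R f := fun f => by
    have h : ∃ g : ι → M, ∑ i, Finsupp.single (g i) (1 : ℕ) = ∑ i, Finsupp.single (f i) 1 := ⟨f, rfl⟩
    show dite _ _ _ = _
    rw [dif_pos h]
    obtain ⟨e, he⟩ := exists_perm_of_sum_single_eq h.choose_spec
    rw [← show (fun i => f (e i)) = h.choose from funext he]
    exact SymmetricPower.tprod_equiv e f
  choose b hb using hC
  have hbad : ∀ (c : C) (r : R), algebraMap R C r = c → ∀ z : Sym, r • z = b c • z := fun c r hr z => by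
    rw [← sub_eq_zero, ← sub_smul]
    exact smul_eq_zero _ (hker _ (by rw [RingHom.mem_ker, map_sub, hr, hb, sub_self])) z
  let Ψ : MvPolynomial M C →+ Sym :=
    AddMonoidHom.mk' (fun q => Finsupp.sum (AddMonoidAlgebra.coeff q) fun d c => b c • T d) fun q q' => by
      show Finsupp.sum (AddMonoidAlgebra.coeff (q + q')) _ = _
      refine Finsupp.sum_add_index' (fun d => ?_) (fun d c c' => ?_)
      · rw [← hbad 0 0 (map_zero _), zero_smul]
      · rw [← add_smul, ← hbad (c + c') (b c + b c') (by rw [map_add, hb, hb])]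
  have hΨ : ∀ d c, Ψ (MvPolynomial.monomial d c) = b c • T d := fun d c => by
    show Finsupp.sum (AddMonoidAlgebra.coeff (MvPolynomial.monomial d c)) (fun d c => b c • T d) = _
    rw [MvPolynomial.sum_monomial_eq]
    rw [← hbad 0 0 (map_zero _), zero_smul]
  have hkey : ∀ x : ι → M, Ψ (L (symToAlg R ι (SymmetricPower.tprod R x))) = SymmetricPower.tprod R x := by
    intro x
    have hexp : ∀ i, x i = ∑ j ∈ (sec (x i)).support, b (sec (x i) j) • j := fun i => by
      have h1 : π (sec (x i)) = x i := LinearMap.congr_fun hsec (x i)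
      conv_lhs => rw [← h1]
      show Finsupp.linearCombination C id (sec (x i)) = _
      rw [Finsupp.linearCombination_apply, Finsupp.sum]
      exact Finset.sum_congr rfl fun j _ => by rw [← algebraMap_smul C (b _) j, hb]; rfl
    have hX : ∀ i, L (SymmetricAlgebra.ι C M (x i)) =
        ∑ j ∈ (sec (x i)).support, MvPolynomial.monomial (Finsupp.single j 1) (sec (x i) j) := fun i => by
      rw [SymmetricAlgebra.lift_ι_apply]
      show Finsupp.linearCombination C MvPolynomial.X (sec (x i)) = _
      rw [Finsupp.linearCombination_apply, Finsupp.sum]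
      exact Finset.sum_congr rfl fun j _ => by rw [MvPolynomial.smul_eq_C_mul, MvPolynomial.C_mul_X_eq_monomial]
    rw [symToAlg_tprod, map_prod, Finset.prod_congr rfl fun i _ => hX i, Finset.prod_univ_sum, map_sum]
    conv_rhs => rw [show x = fun i => ∑ j ∈ (sec (x i)).support, b (sec (x i) j) • j from funext hexp,
      MultilinearMap.map_sum_finset]
    refine Finset.sum_congr rfl fun g _ => ?_
    rw [← MvPolynomial.monomial_sum_prod, hΨ, hT, MultilinearMap.map_smul_univ]
    exact (hbad _ _ (by rw [map_prod]; exact Finset.prod_congr rfl fun i _ => hb _) _).symm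
  have hΨs : ∀ s : Sym, Ψ (L (symToAlg R ι s)) = s := by
    intro s
    have hs : s ∈ Submodule.span R (Set.range (SymmetricPower.tprod R (ι := ι) (M := M))) := by
      rw [SymmetricPower.span_tprod_eq_top]; trivial
    induction hs using Submodule.span_induction with
    | mem z hz => obtain ⟨x, rfl⟩ := hz; exact hkey x
    | zero => simp
    | add a b _ _ ha hb => rw [map_add, map_add, map_add, ha, hb]
    | smul r a _ ha =>
      have hr : ∀ q, Ψ (algebraMap R C r • q) = r • Ψ q := fun q => by
        induction q using MvPolynomial.induction_on' with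
        | monomial d c =>
          rw [MvPolynomial.smul_monomial, hΨ, hΨ, smul_smul, smul_eq_mul, ← hbad (algebraMap R C r * c) (r * b c) (by rw [map_mul, hb])]
        | add p q hp hq => rw [smul_add, map_add, map_add, hp, hq, smul_add]
      rw [map_smul, ← algebraMap_smul C r (symToAlg R ι a), map_smul, hr, ha]
  have hle : (augIdeal C M).map L.toRingHom ≤ MvPolynomial.idealOfVars M C := by
    rw [augIdeal, Ideal.map_span, Ideal.span_le]
    rintro _ ⟨_, ⟨y, rfl⟩, rfl⟩
    show L (SymmetricAlgebra.ι C M y) ∈ MvPolynomial.idealOfVars M C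
    rw [SymmetricAlgebra.lift_ι_apply]
    show Finsupp.linearCombination C MvPolynomial.X (sec y) ∈ _
    rw [Finsupp.linearCombination_apply]
    exact Submodule.sum_mem _ fun j _ => Submodule.smul_of_tower_mem _ _ (Ideal.subset_span ⟨j, rfl⟩)
  have h2 : L (symToAlg R ι s) ∈ MvPolynomial.idealOfVars M C ^ (Fintype.card ι + 1) := by
    refine Ideal.pow_right_mono hle _ ?_
    rw [← Ideal.map_pow]
    exact Ideal.mem_map_of_mem _ hs
  rw [← hΨs s]
  show Finsupp.sum (AddMonoidAlgebra.coeff (L (symToAlg R ι s))) (fun d c => b c • T d) = (0 : Sym)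
  refine Finset.sum_eq_zero fun d hd => ?_
  have hd' := (MvPolynomial.mem_pow_idealOfVars_iff _ _).1 h2 d hd
  show b _ • dite _ _ _ = 0
  rw [dif_neg, smul_zero]
  rintro ⟨f, rfl⟩
  rw [map_sum] at hd'
  simp [Finsupp.degree_single] at hd'

end SymAlg

end Groth.Agent.SymGrLib
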